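import Cfsg.Agent.Lib.Deg.Weights

/-!
# Weights of arbitrary commuting families of operators
-/

set_option autoImplicit false

namespace Cfsg.Agent.Deg

open Module

variable {K V A : Type*} [Field K] [AddCommGroup V] [Module K V]

/-- The weight space of a family of operators. -/
def wtSp (σ : A → End K V) (l : A → K) : Submodule K V where
  carrier := {v | ∀ a, σ a v = l a • v}
  add_mem' {x y} hx hy a := by rw [map_add, hx a, hy a, smul_add]
  zero_mem' a := by simp
  smul_mem' c x hx a := by rw [map_smul, hx a, smul_comm]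

theorem mem_wtSp {σ : A → End K V} {l : A → K} {v : V} :
    v ∈ wtSp σ l ↔ ∀ a, σ a v = l a • v := Iff.rfl

/-- `l` is a weight of the family `σ`. -/
def IsFW (σ : A → End K V) (l : A → K) : Prop := ∃ v : V, v ≠ 0 ∧ ∀ a, σ a v = l a • v

theorem IsFW.wtSp_ne_bot {σ : A → End K V} {l : A → K} (h : IsFW σ l) : wtSp σ l ≠ ⊥ := by
  obtain ⟨v, hv, e⟩ := h
  exact (Submodule.ne_bot_iff _).mpr ⟨v, e, hv⟩

theorem linearIndependent_fw {ι : Type*} (σ : A → End K V) (l : ι → A → K)
    (hl : Function.Injective l) (v : ι → V) (hv : ∀ i, v i ≠ 0)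
    (e : ∀ i a, σ a (v i) = l i a • v i) : LinearIndependent K v := by
  have e' : ∀ i (a : FreeMonoid A), FreeMonoid.lift σ a (v i) = FreeMonoid.lift (l i) a • v i := by
    intro i a
    induction a using FreeMonoid.inductionOn' with
    | one => simp
    | of_mul b a ih =>
      rw [map_mul, map_mul, End.mul_apply, ih, map_smul, FreeMonoid.lift_eval_of,
        FreeMonoid.lift_eval_of, e, smul_smul, mul_comm]
  rw [linearIndependent_iff']
  intro s c hc i hi
  obtain ⟨f, hf⟩ : ∃ f : Dual K V, f (v i) ≠ 0 := by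
    by_contra h
    push Not at h
    exact hv i ((forall_dual_apply_eq_zero_iff K (v i)).mp h)
  have h1 := (linearIndependent_monoidHom (FreeMonoid A) K).comp (fun i => FreeMonoid.lift (l i))
    (FreeMonoid.lift.injective.comp hl)
  rw [linearIndependent_iff'] at h1
  have h2 := h1 s (fun k => c k * f (v k)) (by
    ext a
    have := congrArg (fun x => f (FreeMonoid.lift σ a x)) hc
    simp only [map_sum, map_smul, e', map_zero, smul_eq_mul] at this
    simp only [Finset.sum_apply, Pi.smul_apply, smul_eq_mul, Function.comp_apply, Pi.zero_apply]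
    rw [← this]
    exact Finset.sum_congr rfl fun k _ => by ring) i hi
  exact (mul_eq_zero.mp h2).resolve_right hf

theorem eq_zero_of_sum_fw {ι : Type*} [Fintype ι] (σ : A → End K V) (l : ι → A → K)
    (hl : Function.Injective l) (v : ι → V) (e : ∀ i a, σ a (v i) = l i a • v i)
    (h : ∑ i, v i = 0) (i : ι) : v i = 0 := by
  classical
  by_contra hi
  have h1 := linearIndependent_fw σ (fun k : {k // v k ≠ 0} => l k)
    (hl.comp Subtype.val_injective) (fun k => v k) (fun k => k.2) (fun k => e k)
  rw [Fintype.linearIndependent_iff] at h1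
  refine one_ne_zero (h1 (fun _ => 1) ?_ ⟨i, hi⟩)
  simp only [one_smul]
  rw [← Finset.sum_filter_ne_zero Finset.univ (f := v)] at h
  exact (Finset.sum_subtype _ (by simp) v).symm.trans h

theorem card_mul_le_finrank [FiniteDimensional K V] {ι κ : Type*} [Finite ι] [Finite κ]
    (σ : A → End K V) (l : ι → A → K) (hl : Function.Injective l) (v : ι → κ → V)
    (hv : ∀ i, LinearIndependent K (v i)) (e : ∀ i k a, σ a (v i k) = l i a • v i k) :
    Nat.card ι * Nat.card κ ≤ finrank K V := by
  have := Fintype.ofFinite ι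
  have := Fintype.ofFinite κ
  have h : LinearIndependent K (fun p : ι × κ => v p.1 p.2) := by
    rw [Fintype.linearIndependent_iff]
    intro c hc p
    rw [Fintype.sum_prod_type] at hc
    have h1 := eq_zero_of_sum_fw σ l hl _ (fun i a => by
      rw [map_sum, Finset.smul_sum]
      exact Finset.sum_congr rfl fun k _ => by rw [map_smul, e, smul_comm]) hc p.1
    exact Fintype.linearIndependent_iff.mp (hv p.1) (fun k => c (p.1, k)) h1 p.2
  simpa using h.fintype_card_le_finrank

theorem finite_fw [FiniteDimensional K V] (σ : A → End K V) : Finite {l // IsFW σ l} := by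
  choose v hv e using fun l : {l // IsFW σ l} => l.2
  exact (linearIndependent_fw σ Subtype.val Subtype.val_injective v hv e).finite

theorem card_fw_le [FiniteDimensional K V] (σ : A → End K V) (p : (A → K) → Prop) :
    Nat.card {l // IsFW σ l ∧ p l} ≤ finrank K V := by
  choose v hv e using fun l : {l // IsFW σ l ∧ p l} => l.2.1
  have h := linearIndependent_fw σ Subtype.val Subtype.val_injective v hv e
  have := h.finite
  have := Fintype.ofFinite {l // IsFW σ l ∧ p l}
  rw [Nat.card_eq_fintype_card]
  exact h.fintype_card_le_finrank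

theorem finite_fw' [FiniteDimensional K V] (σ : A → End K V) (p : (A → K) → Prop) :
    Finite {l // IsFW σ l ∧ p l} :=
  have := finite_fw σ
  Finite.of_injective (fun l => (⟨l.1, l.2.1⟩ : {l // IsFW σ l}))
    fun _ _ h => Subtype.ext (congrArg (fun x : {l // IsFW σ l} => x.1) h)

theorem exists_fw_ne_one [IsAlgClosed K] [FiniteDimensional K V] (σ : A → End K V)
    (hc : ∀ a b, σ a * σ b = σ b * σ a) {a : A} {N : ℕ} (hN : (N : K) ≠ 0) (ha : σ a ^ N = 1)
    (h : σ a ≠ 1) : ∃ l, IsFW σ l ∧ l a ≠ 1 := by
  obtain ⟨v, ⟨u, hu⟩, hv0, e⟩ := exists_common_eigenvector σ hc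
    (LinearMap.range (σ a - 1)) (by rwa [Ne, LinearMap.range_eq_bot, sub_eq_zero]) (by
      rintro b _ ⟨w, rfl⟩
      refine ⟨σ b w, ?_⟩
      rw [← End.mul_apply, ← End.mul_apply, sub_mul, mul_sub, hc, one_mul, mul_one])
  choose c hc2 using e
  refine ⟨c, ⟨v, hv0, hc2⟩, fun h1 => hv0 ?_⟩
  have h2 : σ a v = v := by rw [hc2, h1, one_smul]
  have h3 : ∀ i : ℕ, (σ a ^ i) v = v := fun i => by
    induction i with
    | zero => rfl
    | succ i ih => rw [pow_succ, End.mul_apply, h2, ih]
  have h4 : (∑ i ∈ Finset.range N, σ a ^ i) v = 0 := by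
    rw [← hu, ← End.mul_apply, geom_sum_mul, ha]; simp
  simp only [LinearMap.sum_apply, h3, Finset.sum_const, Finset.card_range] at h4
  rw [← Nat.cast_smul_eq_nsmul K] at h4
  exact (smul_eq_zero.mp h4).resolve_left hN

/-- Additive characters of a finite field are the multiples of a non-trivial one. -/
theorem exists_psi_mul {F : Type*} [Field F] [Finite F] {ψ : Multiplicative F →* K} (hψ : ψ ≠ 1)
    (l : F → K) (h0 : l 0 = 1) (hl : ∀ a b, l (a + b) = l a * l b) :
    ∃ h : F, ∀ c, l c = ψ (Multiplicative.ofAdd (c * h)) := by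
  obtain ⟨f, hf⟩ := dualChar_surjective (U := F) hψ
    { toFun := fun a => l a.toAdd, map_one' := h0, map_mul' := fun a b => hl _ _ }
  refine ⟨f 1, fun c => ?_⟩
  have := DFunLike.congr_fun hf (Multiplicative.ofAdd c)
  simp only [dualChar_apply, toAdd_ofAdd, MonoidHom.coe_mk, OneHom.coe_mk] at this
  rw [← this, ← smul_eq_mul, ← map_smul, smul_eq_mul, mul_one]

/-- An irreducible representation by commuting operators has dimension at most one. -/
theorem finrank_le_one_of_comm [IsAlgClosed K] [FiniteDimensional K V] {G : Type*} [Group G]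
    (ρ : Representation K G V) (hρ : ρ.IsIrreducible) (hc : ∀ a b, ρ a * ρ b = ρ b * ρ a) :
    finrank K V ≤ 1 := by
  rcases subsingleton_or_nontrivial V with h | h
  · rw [finrank_zero_of_subsingleton]; exact zero_le_one
  obtain ⟨v, -, hv0, e⟩ := exists_common_eigenvector (fun a => ρ a) hc ⊤ top_ne_bot
    fun _ _ _ => trivial
  let S : Subrepresentation ρ := ⟨K ∙ v, fun g w hw => by
    obtain ⟨c, rfl⟩ := Submodule.mem_span_singleton.mp hw
    obtain ⟨d, hd⟩ := e g
    rw [map_smul, hd, smul_smul]
    exact Submodule.smul_mem _ _ (Submodule.mem_span_singleton_self v)⟩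
  rcases hρ.eq_bot_or_eq_top S with h1 | h1
  · have : v ∈ (⊥ : Subrepresentation ρ) := h1 ▸ Submodule.mem_span_singleton_self v
    exact absurd this hv0
  · have h2 : (K ∙ v) = ⊤ := congrArg Subrepresentation.toSubmodule h1
    rw [← finrank_top, ← h2, finrank_span_singleton hv0]

end Cfsg.Agent.Deg
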