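import Cfsg.Agent.Lib.Deg.SLTrans
import Cfsg.Agent.Lib.SLn.MinIndex

/-!
# Lower bounds for invariant families of sesquilinear forms
-/

set_option autoImplicit false

namespace Cfsg.Agent.Deg

open Matrix Cfsg.Agent.SLn

theorem card_le_mul_of_rel {S Λ : Type*} [Finite S] [Finite Λ] (R : Λ → S → Prop) (N : ℕ)
    (h1 : ∀ s, ∃ C, R C s) (h2 : ∀ C, Nat.card {s // R C s} ≤ N) :
    Nat.card S ≤ N * Nat.card Λ := by
  have := Fintype.ofFinite Λ
  calc Nat.card S ≤ Nat.card (Σ C, {s // R C s}) :=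
        Nat.card_le_card_of_surjective (fun p => p.2.1) fun s => by
          obtain ⟨C, hC⟩ := h1 s
          exact ⟨⟨C, s, hC⟩, rfl⟩
    _ = ∑ C, Nat.card {s // R C s} := Nat.card_sigma
    _ ≤ ∑ _C : Λ, N := Finset.sum_le_sum fun C _ => h2 C
    _ = N * Nat.card Λ := by simp [mul_comm]

theorem card_pow_eq_le {F : Type*} [Field F] {k : ℕ} (hk : 0 < k) (d : F) :
    Nat.card {s : F // s ^ k = d} ≤ k := by
  classical
  have e : {s : F | s ^ k = d} = ((Polynomial.nthRoots k d).toFinset : Set F) := by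
    ext s; simp [Polynomial.mem_nthRoots hk]
  change Nat.card {s : F | s ^ k = d} ≤ k
  rw [e, Nat.card_coe_set_eq, Set.ncard_coe_finset]
  exact (Multiset.toFinset_card_le _).trans (Polynomial.card_nthRoots k d)

variable {ι F : Type*} [Fintype ι] [DecidableEq ι] [Field F]

theorem card_dot_eq [Finite F] {x : ι → F} (hx : x ≠ 0) (c : F) :
    Nat.card {φ : ι → F // x ⬝ᵥ φ = c} = Nat.card F ^ (Fintype.card ι - 1) := by
  obtain ⟨w, hw⟩ := exists_dot_ne_zero hx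
  rw [← card_kerv hx]
  refine Nat.card_congr
    { toFun := fun φ => ⟨φ.1 - (c / (x ⬝ᵥ w)) • w, by
        rw [mem_kerv, dotProduct_sub, φ.2, dotProduct_smul, smul_eq_mul, div_mul_cancel₀ _ hw,
          sub_self]⟩
      invFun := fun φ => ⟨φ.1 + (c / (x ⬝ᵥ w)) • w, by
        rw [dotProduct_add, show x ⬝ᵥ φ.1 = 0 from φ.2, dotProduct_smul, smul_eq_mul,
          div_mul_cancel₀ _ hw, zero_add]⟩
      left_inv := fun φ => by simp
      right_inv := fun φ => by simp }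

omit [DecidableEq ι] in
theorem card_ne_zero_vec [Finite F] :
    Nat.card {x : ι → F // x ≠ 0} = Nat.card F ^ Fintype.card ι - 1 := by
  classical
  have := Fintype.ofFinite F
  rw [Nat.card_eq_fintype_card, Fintype.card_subtype_compl]
  simp

theorem card_dual_pairs [Finite F] : Nat.card {p : (ι → F) × (ι → F) // p.1 ⬝ᵥ p.2 = 1} =
    (Nat.card F ^ Fintype.card ι - 1) * Nat.card F ^ (Fintype.card ι - 1) := by
  have := Fintype.ofFinite {x : ι → F // x ≠ 0}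
  rw [Nat.card_congr (β := Σ x : {x : ι → F // x ≠ 0}, {φ : ι → F // x.1 ⬝ᵥ φ = 1})
    { toFun := fun p => ⟨⟨p.1.1, fun h => by simpa [h] using p.2⟩, p.1.2, p.2⟩
      invFun := fun p => ⟨(p.1.1, p.2.1), p.2.2⟩
      left_inv := fun _ => rfl
      right_inv := fun _ => rfl }, Nat.card_sigma,
    Finset.sum_congr rfl fun x _ => card_dot_eq x.2 1]
  simp [← Nat.card_eq_fintype_card, card_ne_zero_vec]

/-- A class of matrices large enough to move any vector with a complementary hyperplane to any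
other. -/
structure BigSet (ok : Matrix ι ι F → Prop) : Prop where
  mul : ∀ g h, ok g → ok h → ok (g * h)
  tv : ∀ w φ, φ ⬝ᵥ w = 0 → ok (1 + vecMulVec w φ)
  trans : ∀ x y : ι → F, x ≠ 0 → y ≠ 0 → ∃ g, ok g ∧ g *ᵥ x = y

theorem bigSet_SL (hn : 2 ≤ Fintype.card ι) : BigSet (fun g : Matrix ι ι F => g.det = 1) :=
  ⟨fun g h hg hh => by rw [det_mul, hg, hh, mul_one],
    fun w φ h => by rw [det_one_add_vecMulVec, h, add_zero], fun x y hx hy => by
      obtain ⟨g, hg⟩ := exists_SL_mulVec hn hx hy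
      exact ⟨g.1, g.2, hg⟩⟩

theorem bigSet_GL : BigSet (fun g : Matrix ι ι F => g.det ≠ 0) :=
  ⟨fun g h hg hh => by rw [det_mul]; exact mul_ne_zero hg hh,
    fun w φ h => by rw [det_one_add_vecMulVec, h, add_zero]; exact one_ne_zero, fun x y hx hy => by
      obtain ⟨g, h0, hg⟩ := exists_det_ne_zero_family (κ := Unit) (v := fun _ => x)
        (w := fun _ => y) (linearIndependent_unique_iff.mpr hx) (linearIndependent_unique_iff.mpr hy)
      exact ⟨g, h0, hg ()⟩⟩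

theorem BigSet.exists_pair {ok : Matrix ι ι F → Prop} (h : BigSet ok) {x φ x' φ' : ι → F}
    (h1 : x ⬝ᵥ φ = 1) (h2 : x' ⬝ᵥ φ' = 1) : ∃ g, ok g ∧ g *ᵥ x = x' ∧ φ' ᵥ* g = φ := by
  obtain ⟨g, hg, e⟩ := h.trans x x' (by rintro rfl; simp at h1) (by rintro rfl; simp at h2)
  have h3 : (φ' ᵥ* g) ⬝ᵥ x = 1 := by rw [← dotProduct_mulVec, e, dotProduct_comm, h2]
  have h4 : (φ - φ' ᵥ* g) ⬝ᵥ x = 0 := by rw [sub_dotProduct, h3, dotProduct_comm, h1, sub_self]
  refine ⟨g * (1 + vecMulVec x (φ - φ' ᵥ* g)), h.mul _ _ hg (h.tv _ _ h4), ?_, ?_⟩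
  · rw [← mulVec_mulVec, add_mulVec, one_mulVec, vecMulVec_mulVec, h4]; simpa using e
  · rw [← vecMul_vecMul, vecMul_add, vecMul_one, vecMul_vecMulVec, h3]; simp

theorem card_self_eq_le [Finite F] {σ : F →+* F} (B : (ι → F) →ₗ[F] (ι → F) →ₛₗ[σ] F)
    (hrefl : ∀ x y, B x y = 0 → B y x = 0) {k : ℕ} (hk0 : 0 < k) (hk : ∀ s, s * σ s = s ^ k)
    {c : F} (hc : c ≠ 0) :
    Nat.card {x // B x x = c} ≤ k * Nat.card F ^ (Fintype.card ι - 1) := by
  rcases isEmpty_or_nonempty {x // B x x = c} with h | ⟨⟨x₀, hx₀⟩⟩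
  · simp
  obtain ⟨ρ, hρ⟩ := exists_dot_eq_dual (B.flip x₀)
  simp only [LinearMap.flip_apply] at hρ
  have hρ0 : ρ ≠ 0 := by rintro rfl; exact hc (by rw [← hx₀, ← hρ]; simp)
  rw [← card_kerv hρ0]
  refine card_le_mul_of_rel (fun (z : kerv ρ) y => y.1 - (B y.1 x₀ / c) • x₀ = z) k
    (fun y => ⟨⟨_, ?_⟩, rfl⟩) fun z => ?_
  · rw [mem_kerv, hρ]; simp [hx₀, hc]
  · refine le_trans (Nat.card_le_card_of_injective (β := {s : F // s ^ k = (c - B z z) / c})
      (fun y => ⟨B y.1.1 x₀ / c, ?_⟩) fun y y' h => ?_) (card_pow_eq_le hk0 _)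
    · have h1 : B z x₀ = 0 := by rw [← hρ]; exact z.2
      have h2 := hrefl _ _ h1
      have h3 := y.1.2
      rw [sub_eq_iff_eq_add.mp y.2] at h3
      simp only [map_add, LinearMap.add_apply, map_smul, LinearMap.smul_apply, smul_eq_mul,
        LinearMap.map_smulₛₗ, h1, h2, hx₀] at h3
      rw [← hk, eq_div_iff hc]
      linear_combination h3
    · have h' : B y.1.1 x₀ / c = B y'.1.1 x₀ / c := congrArg Subtype.val h
      refine Subtype.ext (Subtype.ext ?_)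
      rw [sub_eq_iff_eq_add.mp y.2, h', ← sub_eq_iff_eq_add.mp y'.2]

/-- An invariant family of reflexive sesquilinear forms containing a non-alternating one. -/
theorem card_forms_ge [Finite F] {σ : F →+* F} {Λ : Type*} [Finite Λ]
    (B : Λ → (ι → F) →ₗ[F] (ι → F) →ₛₗ[σ] F) (hrefl : ∀ C x y, B C x y = 0 → B C y x = 0)
    {ok : Matrix ι ι F → Prop} (hok : BigSet ok)
    (hinv : ∀ g, ok g → ∀ C, ∃ C', ∀ x y, B C' x y = B C (g *ᵥ x) (g *ᵥ y))
    {k : ℕ} (hk0 : 0 < k) (hk : ∀ s, s * σ s = s ^ k) {C₀ : Λ} {x₀ : ι → F}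
    (h0 : B C₀ x₀ x₀ ≠ 0) : Nat.card F ^ Fintype.card ι - 1 ≤ k * Nat.card Λ := by
  set c := B C₀ x₀ x₀ with hc
  obtain ⟨ρ, hρ⟩ := exists_dot_eq_dual ((B C₀).flip x₀)
  simp only [LinearMap.flip_apply] at hρ
  have h1 : x₀ ⬝ᵥ (c⁻¹ • ρ) = 1 := by
    rw [dotProduct_smul, dotProduct_comm, hρ, smul_eq_mul, inv_mul_cancel₀ h0]
  have key := card_le_mul_of_rel (S := {p : (ι → F) × (ι → F) // p.1 ⬝ᵥ p.2 = 1})
    (fun C p => ∀ y, B C y p.1.1 = c * (p.1.2 ⬝ᵥ y)) (k * Nat.card F ^ (Fintype.card ι - 1))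
    (fun p => by
      obtain ⟨g, hg, e1, e2⟩ := hok.exists_pair p.2 h1
      obtain ⟨C, hC⟩ := hinv g hg C₀
      refine ⟨C, fun y => ?_⟩
      rw [hC, e1, ← hρ, ← e2, ← dotProduct_mulVec, smul_dotProduct, smul_eq_mul,
        mul_inv_cancel_left₀ h0])
    (fun C => le_trans (Nat.card_le_card_of_injective (β := {x // B C x x = c})
      (fun p => ⟨p.1.1.1, by rw [p.2, dotProduct_comm, p.1.2, mul_one]⟩) fun p p' h => by
        have h' : p.1.1.1 = p'.1.1.1 := congrArg Subtype.val h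
        refine Subtype.ext (Subtype.ext (Prod.ext h' ?_))
        refine dotProduct_eq _ _ fun y => mul_left_cancel₀ h0 ?_
        rw [← p.2, ← p'.2, h'])
      (card_self_eq_le (B C) (hrefl C) hk0 hk h0))
  rw [card_dual_pairs, mul_right_comm] at key
  exact Nat.le_of_mul_le_mul_right key (pow_pos Nat.card_pos _)

end Cfsg.Agent.Deg
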