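import Cfsg.Agent.Lib.Deg.Orbit1
import Cfsg.Agent.Lib.Forms.Concrete

/-!
# Lower bounds for invariant families of quadratic forms of rank at least two
-/

set_option autoImplicit false

namespace Cfsg.Agent.Deg

open Matrix Cfsg.Agent.SLn Cfsg.Agent.Forms Cfsg.Agent.Forms.Form

variable {F : Type*} [Field F]

theorem card_le_of_cover {α β : Type*} [Finite β] {p : α → Prop} (g : β → α)
    (h : ∀ a, p a → ∃ b, g b = a) : Nat.card {a // p a} ≤ Nat.card β := by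
  choose s hs using fun a : {a // p a} => h a.1 a.2
  exact Nat.card_le_card_of_injective s fun a b e => Subtype.ext (by rw [← hs, ← hs, e])

theorem card_quad_roots_le {α : F} (hα : α ≠ 0) (β γ : F) :
    Nat.card {t : F // α * t ^ 2 + β * t + γ = 0} ≤ 2 := by
  rcases isEmpty_or_nonempty {t : F // α * t ^ 2 + β * t + γ = 0} with h | ⟨⟨s, hs⟩⟩
  · simp
  refine (card_le_of_cover (β := Bool) (fun b => if b then s else -β / α - s) fun t ht => ?_).trans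
    (by simp)
  by_cases h : t = s
  · exact ⟨true, h.symm⟩
  · refine ⟨false, ?_⟩
    simp only [Bool.false_eq_true, if_false]
    rw [sub_eq_iff_eq_add, div_eq_iff hα]
    exact mul_left_cancel₀ (sub_ne_zero.mpr h) (by linear_combination hs - ht)

theorem card_conic_le [Finite F] {A B C : F}
    (h : ∀ r s : F, A * r ^ 2 + B * r * s + C * s ^ 2 = 0 → r = 0 ∧ s = 0) (α β γ : F) :
    Nat.card {p : F × F // A * p.1 ^ 2 + B * p.1 * p.2 + C * p.2 ^ 2 + α * p.1 + β * p.2 + γ = 0} ≤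
      Nat.card F + 1 := by
  rcases isEmpty_or_nonempty {p : F × F //
    A * p.1 ^ 2 + B * p.1 * p.2 + C * p.2 ^ 2 + α * p.1 + β * p.2 + γ = 0} with h' | ⟨⟨⟨r, s⟩, hs⟩⟩
  · simp
  simp only at hs
  set α' := α + 2 * A * r + B * s
  set β' := β + B * r + 2 * C * s
  have hA : A ≠ 0 := fun e => one_ne_zero (h 1 0 (by simp [e])).1
  have hq : ∀ t, A * t ^ 2 + B * t + C ≠ 0 := fun t e => one_ne_zero (h t 1 (by simpa using e)).2
  refine (card_le_of_cover (β := Option F) (fun o => o.elim (r - α' / A, s) fun t =>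
    (r - (α' * t + β') / (A * t ^ 2 + B * t + C) * t, s - (α' * t + β') / (A * t ^ 2 + B * t + C)))
    fun ⟨x, y⟩ ht => ?_).trans (by simp)
  simp only at ht
  by_cases hy : y = s
  · subst hy
    by_cases hx : x = r
    · subst hx
      by_cases h0 : α' = 0
      · exact ⟨none, by simp [h0]⟩
      · exact ⟨some (-β' / α'), by simp [mul_div_cancel₀ _ h0]⟩
    · refine ⟨none, Prod.ext ?_ rfl⟩
      simp only [Option.elim, α']
      rw [sub_eq_iff_eq_add, ← sub_eq_iff_eq_add', eq_div_iff hA]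
      exact mul_left_cancel₀ (sub_ne_zero.mpr hx) (by linear_combination hs - ht)
  · have h0 := sub_ne_zero.mpr hy
    have e : (α' * ((x - r) / (y - s)) + β') / (A * ((x - r) / (y - s)) ^ 2 +
        B * ((x - r) / (y - s)) + C) = -(y - s) := by
      rw [div_eq_iff (hq _)]
      simp only [α', β']
      field_simp
      linear_combination ht - hs
    refine ⟨some ((x - r) / (y - s)), ?_⟩
    simp only [Option.elim, e]
    refine Prod.ext ?_ (by simp)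
    simp only; field_simp; ring

variable {V : Type*} [AddCommGroup V] [Module F V] {f : Form (Param.orth F) V}

theorem orth_Q_comb (f : Form (Param.orth F) V) (z u v : V) (r s : F) :
    f.Q (z + r • u + s • v) = f.Q u * r ^ 2 + f.B u v * r * s + f.Q v * s ^ 2 + f.B z u * r +
      f.B z v * s + f.Q z := by
  simp only [orth_Q_add, orth_Q_smul, B_add_left, B_smul_left, orth_B_smul_right]; ring

theorem exists_good_plane [Finite F] {x₁ x₂ : V} (h : f.B x₁ x₂ ^ 2 ≠ 4 * f.Q x₁ * f.Q x₂) {a : F}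
    (ha : a ≠ 0) : ∃ u v : V, ∀ z,
      Nat.card {p : F × F // f.Q (z + p.1 • u + p.2 • v) = a} ≤ Nat.card F + 1 := by
  by_cases hA : ∃ u v : V, ∀ r s : F,
      f.Q u * r ^ 2 + f.B u v * r * s + f.Q v * s ^ 2 = 0 → r = 0 ∧ s = 0
  · obtain ⟨u, v, huv⟩ := hA
    refine ⟨u, v, fun z => le_of_eq_of_le (Nat.card_congr (Equiv.subtypeEquivRight fun p => ?_))
      (card_conic_le huv (f.B z u) (f.B z v) (f.Q z - a))⟩
    rw [orth_Q_comb, ← add_sub_assoc, sub_eq_zero]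
  push Not at hA
  obtain ⟨r, s, h1, h2⟩ := hA x₁ x₂
  have h3 : f.Q (r • x₁ + s • x₂) = 0 := by
    have := orth_Q_comb f 0 x₁ x₂ r s
    simpa [h1, f.Q_zero] using this
  obtain ⟨w, hw⟩ : ∃ w, f.B (r • x₁ + s • x₂) w ≠ 0 := by
    by_contra hc
    push Not at hc
    have e1 := hc x₁
    have e2 := hc x₂
    simp only [B_add_left, B_smul_left, orth_B_self, f.orth_symm x₁ x₂] at e1 e2
    have hr : r = 0 := mul_left_cancel₀ (sub_ne_zero.mpr h)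
      (by linear_combination f.B x₁ x₂ * e2 - 2 * f.Q x₂ * e1)
    exact h2 hr (mul_left_cancel₀ (sub_ne_zero.mpr h)
      (by linear_combination f.B x₁ x₂ * e1 - 2 * f.Q x₁ * e2))
  obtain ⟨c, he⟩ := exists_hypPair_of_B (w := (f.B (r • x₁ + s • x₂) w)⁻¹ • w) h3
    (by rw [orth_B_smul_right, inv_mul_cancel₀ hw])
  generalize r • x₁ + s • x₂ = u, (f.B (r • x₁ + s • x₂) w)⁻¹ • w - c • (r • x₁ + s • x₂) = e at he
  have h4 : ∀ x, f.B x u = 0 → f.B x e = 0 → f.Q x = 0 := by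
    intro x h1 h2
    by_contra hx
    obtain ⟨β, hβ⟩ : ∃ β, ∀ t, -(f.Q x * t ^ 2 + t) ≠ β := by
      by_contra hc
      push Not at hc
      have := Finite.injective_iff_surjective.mpr hc (a₁ := 0) (a₂ := -(f.Q x)⁻¹)
        (by field_simp; ring)
      exact hx (by simpa using this)
    obtain ⟨r, s, e1, e2⟩ := hA (x + u) (β • u + e)
    simp only [orth_Q_add, orth_Q_smul, B_add_left, B_add_right, B_smul_left, orth_B_smul_right,
      h1, h2, he.Qu, he.Qe, he.Buu, he.Bue] at e1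
    by_cases hs : s = 0
    · exact e2 (by simpa [hs, hx] using e1) hs
    · exact hβ (r / s) (by field_simp; linear_combination -e1)
  refine ⟨u, e, fun z => ?_⟩
  obtain ⟨α, β, x, h1, h2, rfl⟩ := he.exists_decomp z
  refine (card_le_of_cover (β := F) (fun r => (r, a / (α + r) - β)) fun ⟨r, s⟩ hp => ⟨r, ?_⟩).trans
    (Nat.le_succ _)
  rw [show α • u + β • e + x + r • u + s • e = (α + r) • u + (β + s) • e + x by module,
    he.Q_decomp _ _ h1 h2, h4 x h1 h2, add_zero] at hp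
  simp only [Param.orth_σ, Param.orth_τ] at hp
  have : α + r ≠ 0 := left_ne_zero_of_mul (hp ▸ ha)
  rw [← hp]
  refine Prod.ext rfl ?_
  simp only; field_simp; ring

theorem card_Q_eq_le [Finite F] [Finite V] {x₁ x₂ : V} (h : f.B x₁ x₂ ^ 2 ≠ 4 * f.Q x₁ * f.Q x₂)
    {a : F} (ha : a ≠ 0) :
    Nat.card {x // f.Q x = a} * Nat.card F ^ 2 ≤ (Nat.card F + 1) * Nat.card V := by
  obtain ⟨u, v, huv⟩ := exists_good_plane h ha
  rw [sq, ← Nat.card_prod, ← Nat.card_prod]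
  refine card_le_mul_of_rel (fun z p => p.1.1 = z + p.2.1 • u + p.2.2 • v) _
    (fun p => ⟨p.1.1 - p.2.1 • u - p.2.2 • v, by module⟩) fun z => le_trans
      (Nat.card_le_card_of_injective (fun p => ⟨p.1.2, p.2 ▸ p.1.1.2⟩) fun p p' e => ?_) (huv z)
  have e' : p.1.2 = p'.1.2 := congrArg Subtype.val e
  exact Subtype.ext (Prod.ext (Subtype.ext (by rw [p.2, p'.2, e'])) e')

theorem card_B_Q_eq_le [Finite F] [Finite V] {x : V} (hx : f.Q x ≠ 0) {b c : F}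
    (h : c ^ 2 ≠ 4 * f.Q x * b) :
    Nat.card {y // f.B x y = c ∧ f.Q y = b} * Nat.card F ^ 2 ≤ 2 * Nat.card V := by
  rcases isEmpty_or_nonempty {y // f.B x y = c ∧ f.Q y = b} with h' | ⟨⟨y, h1, h2⟩⟩
  · simp
  obtain ⟨e, he⟩ : ∃ e, f.B x e ≠ 0 := by
    by_contra hc
    push Not at hc
    have := hc x
    rw [orth_B_self] at this
    exact h (by rw [← h1, hc]; linear_combination (-2 * b) * this)
  set d := c • x - (2 * f.Q x) • y
  have hd : f.B x d = 0 := by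
    simp only [d, B_sub_right, orth_B_smul_right, orth_B_self, h1]; ring
  have hd' : f.Q d ≠ 0 := by
    simp only [d, orth_Q_sub, orth_Q_smul, B_smul_left, orth_B_smul_right, h1, h2]
    exact fun e => h (mul_left_cancel₀ hx (by linear_combination -e))
  rw [sq, ← Nat.card_prod, ← Nat.card_prod]
  refine card_le_mul_of_rel (fun z p => p.1.1 = z + p.2.1 • e + p.2.2 • d) _
    (fun p => ⟨p.1.1 - p.2.1 • e - p.2.2 • d, by module⟩) fun z => ?_
  have key : ∀ p : {p : {y // f.B x y = c ∧ f.Q y = b} × F × F //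
      p.1.1 = z + p.2.1 • e + p.2.2 • d}, p.1.2.1 = (c - f.B x z) / f.B x e := fun p => by
    have := p.1.1.2.1
    rw [p.2, B_add_right, B_add_right, orth_B_smul_right, orth_B_smul_right, hd] at this
    rw [eq_div_iff he]; linear_combination this
  refine le_trans (Nat.card_le_card_of_injective (fun p => ⟨p.1.2.2, by
      have := p.1.1.2.2
      rw [p.2, orth_Q_add, orth_Q_smul, orth_B_smul_right, key] at this
      linear_combination this⟩) fun p p' e => ?_)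
    (card_quad_roots_le hd' (f.B (z + ((c - f.B x z) / f.B x e) • e) d)
      (f.Q (z + ((c - f.B x z) / f.B x e) • e) - b))
  have e' : p.1.2 = p'.1.2 := Prod.ext (by rw [key, key]) (congrArg Subtype.val e)
  exact Subtype.ext (Prod.ext (Subtype.ext (by rw [p.2, p'.2, e'])) e')

variable {ι : Type*} [Fintype ι] [DecidableEq ι]

theorem card_le_dot_two [Finite F] {x : Fin 2 → ι → F} (hx : LinearIndependent F x) (c₀ c₁ : F) :
    Nat.card (ι → F) ≤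
      Nat.card F ^ 2 * Nat.card {φ : ι → F // φ ⬝ᵥ x 0 = c₀ ∧ φ ⬝ᵥ x 1 = c₁} := by
  have hx' : LinearIndependent F ![x 0, x 1] := by convert hx; ext i : 1; fin_cases i <;> rfl
  rw [LinearIndependent.pair_iff] at hx'
  obtain ⟨ρ, a1, a2⟩ := exists_dot_single (a := x 1) (y := x 0) fun s e =>
    one_ne_zero (hx' 1 (-s) (by rw [e]; module)).1
  obtain ⟨ρ', b1, b2⟩ := exists_dot_single (a := x 0) (y := x 1) fun s e =>
    one_ne_zero (hx' (-s) 1 (by rw [e]; module)).2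
  refine card_le_mul_of_rel (fun ψ φ => ∃ p : F × F, ψ.1 + p.1 • ρ + p.2 • ρ' = φ) _
    (fun φ => ⟨⟨φ - (φ ⬝ᵥ x 0 - c₀) • ρ - (φ ⬝ᵥ x 1 - c₁) • ρ', by simp [a1, a2, b1, b2]⟩,
      (φ ⬝ᵥ x 0 - c₀, φ ⬝ᵥ x 1 - c₁), by module⟩)
    fun ψ => (card_le_of_cover _ fun a h => h).trans (by simp [sq])

/-- An invariant family of quadratic forms containing one of rank at least two. -/
theorem card_quad_ge [Finite F] {Λ : Type*} [Finite Λ] (Q : Λ → Form (Param.orth F) (ι → F))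
    (hinv : ∀ g : Matrix ι ι F, g.det ≠ 0 → ∀ C, ∃ C', ∀ x, (Q C').Q x = (Q C).Q (g *ᵥ x))
    {C₀ : Λ} {x₁ x₂ : ι → F} (h : (Q C₀).B x₁ x₂ ^ 2 ≠ 4 * (Q C₀).Q x₁ * (Q C₀).Q x₂) :
    (Nat.card F ^ Fintype.card ι - 1) * (Nat.card F ^ Fintype.card ι - Nat.card F) ≤
      2 * (Nat.card F + 1) * Nat.card Λ := by
  wlog ha : (Q C₀).Q x₁ ≠ 0 generalizing x₁ x₂
  · push Not at ha
    by_cases hb : (Q C₀).Q x₂ = 0
    · have h0 : (Q C₀).B x₁ x₂ ≠ 0 := fun e => h (by simp [e, ha])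
      exact this (x₁ := x₁ + x₂) (x₂ := x₂) (by simpa [orth_B_self, hb] using h0)
        (by simpa [orth_Q_add, ha, hb] using h0)
    · exact this (x₁ := x₂) (x₂ := x₁) (by rwa [orth_symm, mul_right_comm]) hb
  set a := (Q C₀).Q x₁ with ea
  set b := (Q C₀).Q x₂ with eb
  set c := (Q C₀).B x₁ x₂ with ec
  have hD : 4 * a * b - c ^ 2 ≠ 0 := sub_ne_zero.mpr h.symm
  obtain ⟨ρ₁, h1⟩ := exists_dot_eq_dual ((Q C₀).B.flip x₁)
  obtain ⟨ρ₂, h2⟩ := exists_dot_eq_dual ((Q C₀).B.flip x₂)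
  simp only [LinearMap.flip_apply] at h1 h2
  set φ₁ := (4 * a * b - c ^ 2)⁻¹ • ((2 * b) • ρ₁ - c • ρ₂)
  set φ₂ := (4 * a * b - c ^ 2)⁻¹ • ((2 * a) • ρ₂ - c • ρ₁)
  have e : (φ₁ ⬝ᵥ x₁ = 1 ∧ φ₁ ⬝ᵥ x₂ = 0) ∧ φ₂ ⬝ᵥ x₁ = 0 ∧ φ₂ ⬝ᵥ x₂ = 1 := by
    simp only [φ₁, φ₂, smul_dotProduct, sub_dotProduct, h1, h2, smul_eq_mul, orth_B_self,
      (Q C₀).orth_symm x₁ x₂, ← ea, ← eb, ← ec]
    refine ⟨⟨?_, ?_⟩, ?_, ?_⟩ <;> field_simp <;> ring
  have hli : LinearIndependent F ![x₁, x₂] := LinearIndependent.pair_iff.mpr fun s t hst =>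
    ⟨by simpa [e.1.1, e.1.2] using congrArg (φ₁ ⬝ᵥ ·) hst,
      by simpa [e.2.1, e.2.2] using congrArg (φ₂ ⬝ᵥ ·) hst⟩
  set q := Nat.card F
  set M := Nat.card (ι → F)
  have hq : 0 < q := Nat.card_pos
  have hM : 0 < M := Nat.card_pos
  let S := Σ x : {x : Fin 2 → ι → F // LinearIndependent F x},
    {φ : ι → F // φ ⬝ᵥ x.1 0 = 1 ∧ φ ⬝ᵥ x.1 1 = 0} × {φ : ι → F // φ ⬝ᵥ x.1 0 = 0 ∧ φ ⬝ᵥ x.1 1 = 1}
  have key := card_le_mul_of_rel (S := S) (fun C p => ((Q C).Q (p.1.1 0) = a ∧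
      (Q C).Q (p.1.1 1) = b) ∧ ∀ y, (Q C).B y (p.1.1 0) = 2 * a * (p.2.1.1 ⬝ᵥ y) +
        c * (p.2.2.1 ⬝ᵥ y) ∧ (Q C).B y (p.1.1 1) = c * (p.2.1.1 ⬝ᵥ y) + 2 * b * (p.2.2.1 ⬝ᵥ y))
    ((q + 1) * M / q ^ 2 * (2 * M / q ^ 2)) (fun ⟨⟨x, hx⟩, ⟨ψ₁, a1, a2⟩, ⟨ψ₂, b1, b2⟩⟩ => ?_)
    fun C => ?_
  · have := Fintype.ofFinite {x : Fin 2 → ι → F // LinearIndependent F x}
    have h3 : Nat.card {x : Fin 2 → ι → F // LinearIndependent F x} * (M * M) ≤
        Nat.card S * (q ^ 2 * q ^ 2) := by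
      rw [Nat.card_sigma, Finset.sum_mul, Nat.card_eq_fintype_card, ← smul_eq_mul,
        ← Finset.card_univ, ← Finset.sum_const]
      refine Finset.sum_le_sum fun x _ => ?_
      rw [Nat.card_prod, mul_comm _ (q ^ 2 * q ^ 2), mul_mul_mul_comm]
      exact Nat.mul_le_mul (card_le_dot_two x.2 1 0) (card_le_dot_two x.2 0 1)
    have := Fintype.ofFinite F
    rw [card_linearIndependent (by simpa using hli.fintype_card_le_finrank), Fin.prod_univ_two,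
      Module.finrank_fintype_fun_eq_card, ← Nat.card_eq_fintype_card] at h3
    simp only [Fin.val_zero, pow_zero, Fin.val_one, pow_one] at h3
    refine Nat.le_of_mul_le_mul_right (h3.trans ((Nat.mul_le_mul_right _ key).trans ?_))
      (Nat.mul_pos hM hM)
    calc _ = ((q + 1) * M / q ^ 2 * q ^ 2) * (2 * M / q ^ 2 * q ^ 2) * Nat.card Λ := by ring
      _ ≤ ((q + 1) * M) * (2 * M) * Nat.card Λ := Nat.mul_le_mul_right _
        (Nat.mul_le_mul (Nat.div_mul_le_self _ _) (Nat.div_mul_le_self _ _))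
      _ = _ := by ring
  · obtain ⟨g, hg, eg⟩ := exists_det_ne_zero_family hx hli
    have g0 : g *ᵥ x 0 = x₁ := eg 0
    have g1 : g *ᵥ x 1 = x₂ := eg 1
    simp only at a1 a2 b1 b2
    have t1 : (ψ₁ - φ₁ ᵥ* g) ⬝ᵥ x 0 = 0 ∧ (ψ₁ - φ₁ ᵥ* g) ⬝ᵥ x 1 = 0 := by
      simp [← dotProduct_mulVec, g0, g1, e, a1, a2]
    have t2 : (ψ₂ - φ₂ ᵥ* g) ⬝ᵥ x 0 = 0 ∧ (ψ₂ - φ₂ ᵥ* g) ⬝ᵥ x 1 = 0 := by
      simp [← dotProduct_mulVec, g0, g1, e, b1, b2]
    set k := g * ((1 + vecMulVec (x 0) (ψ₁ - φ₁ ᵥ* g)) * (1 + vecMulVec (x 1) (ψ₂ - φ₂ ᵥ* g)))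
    have hk : ∀ y, k *ᵥ y =
        g *ᵥ y + ((ψ₁ - φ₁ ᵥ* g) ⬝ᵥ y) • x₁ + ((ψ₂ - φ₂ ᵥ* g) ⬝ᵥ y) • x₂ := fun y => by
      simp only [k, ← mulVec_mulVec, add_mulVec, one_mulVec, vecMulVec_mulVec, op_smul_eq_smul,
        mulVec_add, mulVec_smul, dotProduct_add, dotProduct_smul, t1.2, g0, g1, smul_zero]
      module
    obtain ⟨C, hC⟩ := hinv k (bigSet_GL.mul _ _ hg (bigSet_GL.mul _ _ (bigSet_GL.tv _ _ t1.1)
      (bigSet_GL.tv _ _ t2.2))) C₀
    have hB : ∀ y z, (Q C).B y z = (Q C₀).B (k *ᵥ y) (k *ᵥ z) := fun y z => by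
      have := hC (y + z)
      rw [mulVec_add, orth_Q_add, orth_Q_add, hC, hC] at this
      exact add_left_cancel this
    have k0 : k *ᵥ x 0 = x₁ := by simp [hk, t1, t2, g0]
    have k1 : k *ᵥ x 1 = x₂ := by simp [hk, t1, t2, g1]
    have p1 : ∀ y, φ₁ ⬝ᵥ k *ᵥ y = ψ₁ ⬝ᵥ y := fun y => by
      simp [hk, e, dotProduct_mulVec]
    have p2 : ∀ y, φ₂ ⬝ᵥ k *ᵥ y = ψ₂ ⬝ᵥ y := fun y => by
      simp [hk, e, dotProduct_mulVec]
    refine ⟨C, ⟨by rw [hC, k0], by rw [hC, k1]⟩, fun y => ?_⟩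
    simp only [hB, k0, k1, ← p1, ← p2, ← h1, ← h2, φ₁, φ₂, smul_dotProduct, sub_dotProduct,
      smul_eq_mul]
    have := inv_mul_cancel₀ hD
    exact ⟨by linear_combination (-(ρ₁ ⬝ᵥ k *ᵥ y)) * this,
      by linear_combination (-(ρ₂ ⬝ᵥ k *ᵥ y)) * this⟩
  · rcases isEmpty_or_nonempty {s : S // ((Q C).Q (s.1.1 0) = a ∧
      (Q C).Q (s.1.1 1) = b) ∧ ∀ y, (Q C).B y (s.1.1 0) = 2 * a * (s.2.1.1 ⬝ᵥ y) +
        c * (s.2.2.1 ⬝ᵥ y) ∧ (Q C).B y (s.1.1 1) = c * (s.2.1.1 ⬝ᵥ y) + 2 * b * (s.2.2.1 ⬝ᵥ y)}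
      with h' | ⟨⟨s₀⟩⟩
    · simp
    have hc : ∀ s : S, (∀ y, (Q C).B y (s.1.1 0) = 2 * a * (s.2.1.1 ⬝ᵥ y) +
        c * (s.2.2.1 ⬝ᵥ y) ∧ (Q C).B y (s.1.1 1) = c * (s.2.1.1 ⬝ᵥ y) + 2 * b * (s.2.2.1 ⬝ᵥ y)) →
        (Q C).B (s.1.1 0) (s.1.1 1) = c := fun s hs => by
      rw [(hs _).2, s.2.1.2.1, s.2.2.2.1]; ring
    refine le_trans (Nat.card_le_card_of_injective (β := Σ x : {x // (Q C).Q x = a},
      {y // (Q C).B x y = c ∧ (Q C).Q y = b})
      (fun s => ⟨⟨s.1.1.1 0, s.2.1.1⟩, s.1.1.1 1, hc _ s.2.2, s.2.1.2⟩) ?_) ?_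
    · rintro ⟨⟨⟨x, hx⟩, ⟨ψ₁, a1⟩, ⟨ψ₂, b1⟩⟩, _, hs⟩ ⟨⟨⟨x', hx'⟩, ⟨ψ₁', a1'⟩, ⟨ψ₂', b1'⟩⟩, _, hs'⟩ h
      have h0 : x 0 = x' 0 := congrArg (fun z => z.1.1) h
      have h1 : x 1 = x' 1 := congrArg (fun z => z.2.1) h
      obtain rfl : x = x' := by ext i : 1; fin_cases i <;> assumption
      simp only at hs hs'
      obtain rfl : ψ₁ = ψ₁' := dotProduct_eq _ _ fun y => mul_left_cancel₀ hD (by
        linear_combination 2 * b * ((hs' y).1 - (hs y).1) - c * ((hs' y).2 - (hs y).2))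
      obtain rfl : ψ₂ = ψ₂' := dotProduct_eq _ _ fun y => mul_left_cancel₀ hD (by
        linear_combination 2 * a * ((hs' y).2 - (hs y).2) - c * ((hs' y).1 - (hs y).1))
      rfl
    · have := Fintype.ofFinite {x // (Q C).Q x = a}
      rw [Nat.card_sigma]
      refine (Finset.sum_le_card_nsmul _ _ (2 * M / q ^ 2) fun x _ =>
        (Nat.le_div_iff_mul_le (pow_pos hq 2)).mpr
          (card_B_Q_eq_le (by rwa [x.2]) (by rwa [x.2]))).trans ?_
      rw [smul_eq_mul, Finset.card_univ, ← Nat.card_eq_fintype_card]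
      exact Nat.mul_le_mul_right _ ((Nat.le_div_iff_mul_le (pow_pos hq 2)).mpr
        (card_Q_eq_le (x₁ := s₀.1.1.1 0) (x₂ := s₀.1.1.1 1)
          (by rwa [hc _ s₀.2.2, s₀.2.1.1, s₀.2.1.2]) ha))

end Cfsg.Agent.Deg
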