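import Cfsg.Agent.Lib.Deg.FW

/-!
# Projections on weight spaces
-/

set_option autoImplicit false

namespace Cfsg.Agent.Deg

open Module

variable {A W : Type*} [AddCommGroup A] [Fintype A] [AddCommGroup W] [Module ℂ W]

/-- the projection on a weight space -/
noncomputable def prj (a : A → End ℂ W) (χ : AddChar A ℂ) : End ℂ W :=
  (Fintype.card A : ℂ)⁻¹ • ∑ x, χ (-x) • a x

variable {a : A → End ℂ W}

theorem prj_apply (χ : AddChar A ℂ) (w : W) :
    prj a χ w = (Fintype.card A : ℂ)⁻¹ • ∑ x, χ (-x) • a x w := by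
  simp [prj, LinearMap.sum_apply]

theorem prj_mem {Y : Submodule ℂ W} {y : W} (hY : ∀ x, a x y ∈ Y) (χ : AddChar A ℂ) :
    prj a χ y ∈ Y := by
  rw [prj_apply]
  exact Y.smul_mem _ (Y.sum_mem fun x _ => Y.smul_mem _ (hY x))

theorem prj_of_wt {χ : AddChar A ℂ} {w : W} (hw : w ∈ wtSp a χ) : prj a χ w = w := by
  have : ∀ x, χ (-x) • a x w = w := fun x => by
    rw [hw x, smul_smul, ← AddChar.map_add_eq_mul]; simp
  rw [prj_apply]
  simp only [this, Finset.sum_const, Finset.card_univ, ← Nat.cast_smul_eq_nsmul ℂ]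
  exact inv_smul_smul₀ (Nat.cast_ne_zero.mpr Fintype.card_ne_zero) w

theorem prj_of_wt_ne {χ χ' : AddChar A ℂ} {w : W} (hw : w ∈ wtSp a χ') (h : χ' ≠ χ) :
    prj a χ w = 0 := by
  have : ∀ x, χ (-x) • a x w = (χ' - χ) x • w := fun x => by
    rw [hw x, smul_smul, AddChar.sub_apply, mul_comm]
  rw [prj_apply]
  simp only [this, ← Finset.sum_smul]
  rw [AddChar.sum_eq_zero_iff_ne_zero.mpr (sub_ne_zero.mpr h)]; simp

theorem prj_mem_wt (hadd : ∀ x y, a (x + y) = a x * a y) (χ : AddChar A ℂ) (w : W) :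
    prj a χ w ∈ wtSp a χ := fun y => by
  rw [prj_apply, map_smul, map_sum, smul_comm (χ y), Finset.smul_sum (r := χ y),
    ← Equiv.sum_comp (Equiv.addLeft y) fun x => χ y • χ (-x) • a x w]
  congr 1
  refine Finset.sum_congr rfl fun x _ => ?_
  rw [map_smul, smul_smul, ← AddChar.map_add_eq_mul, Equiv.coe_addLeft, hadd]
  simp

variable {F : Type*} [Field F] [Fintype F] {ψ : AddChar F ℂ} {a : F → End ℂ W}

theorem mulShift_inj (hψ : ψ ≠ 1) {β β' : F} (h : ψ.mulShift β = ψ.mulShift β') : β = β' :=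
  AddChar.to_mulShift_inj_of_isPrimitive (AddChar.IsPrimitive.of_ne_one hψ) h

theorem sum_prj (hψ : ψ ≠ 1) (h0 : a 0 = 1) (w : W) : ∑ β : F, prj a (ψ.mulShift β) w = w := by
  classical
  simp only [prj_apply, ← Finset.smul_sum]
  rw [Finset.sum_comm]
  simp only [← Finset.sum_smul, AddChar.mulShift_apply,
    AddChar.sum_mulShift _ (AddChar.IsPrimitive.of_ne_one hψ), neg_eq_zero]
  simp [h0]

theorem wt_induction (hψ : ψ ≠ 1) (h0 : a 0 = 1) (hadd : ∀ x y, a (x + y) = a x * a y)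
    {Y Z : Submodule ℂ W} (hY : ∀ x, ∀ y ∈ Y, a x y ∈ Y)
    (h : ∀ β, ∀ y ∈ Y, y ∈ wtSp a (ψ.mulShift β) → y ∈ Z) : Y ≤ Z := fun y hy => by
  rw [← sum_prj hψ h0 y]
  exact Z.sum_mem fun β _ => h β _ (prj_mem (fun x => hY x y hy) _) (prj_mem_wt hadd _ _)

theorem sub_prj_mem (hψ : ψ ≠ 1) (h0 : a 0 = 1) (hadd : ∀ x y, a (x + y) = a x * a y)
    {Y Z : Submodule ℂ W} (hY : ∀ x, ∀ y ∈ Y, a x y ∈ Y)
    (h : ∀ β, β ≠ 0 → ∀ y ∈ Y, y ∈ wtSp a (ψ.mulShift β) → y ∈ Z) {y : W} (hy : y ∈ Y) :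
    y - prj a (ψ.mulShift 0) y ∈ Z := by
  classical
  nth_rw 1 [← sum_prj hψ h0 y]
  rw [← Finset.add_sum_erase _ _ (Finset.mem_univ 0), add_sub_cancel_left]
  exact Z.sum_mem fun β hβ => h β (Finset.ne_of_mem_erase hβ) _
    (prj_mem (fun x => hY x y hy) _) (prj_mem_wt hadd _ _)

theorem wt_unique (hψ : ψ ≠ 1) {β β' : F} {w : W} (h0 : w ≠ 0) (h : w ∈ wtSp a (ψ.mulShift β))
    (h' : w ∈ wtSp a (ψ.mulShift β')) : β = β' := by
  by_contra hne
  exact h0 ((prj_of_wt h).symm.trans (prj_of_wt_ne h' fun e => hne (mulShift_inj hψ e).symm))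

/-- the stabiliser of a subspace -/
def stabSub {G : Type*} [Group G] [Finite G] (ρ : G →* End ℂ W) (Y : Submodule ℂ W) :
    Subgroup G where
  carrier := {g | ∀ y ∈ Y, ρ g y ∈ Y}
  one_mem' y hy := by simpa using hy
  mul_mem' {a b} ha hb y hy := by rw [map_mul]; exact ha _ (hb y hy)
  inv_mem' {a} ha := by
    have h : ∀ n : ℕ, ∀ y ∈ Y, ρ (a ^ n) y ∈ Y := fun n => by
      induction n with
      | zero => simp
      | succ n ih => intro y hy; rw [pow_succ, map_mul]; exact ih _ (ha y hy)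
    rw [show a⁻¹ = a ^ (orderOf a - 1) by
      rw [eq_comm, eq_inv_iff_mul_eq_one, ← pow_succ, Nat.sub_add_cancel (orderOf_pos a),
        pow_orderOf_eq_one]]
    exact h _

end Cfsg.Agent.Deg
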