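import Cfsg.Agent.Lib.Char.Linear
import Cfsg.Agent.Lib.Char.Central
import Cfsg.Agent.Lib.Deg.Orbit2

/-!
# The permutation character of `SL_n(q)` on non-zero vectors
-/

set_option autoImplicit false

namespace Cfsg.Agent.Deg

open Matrix Cfsg.Agent.Char Cfsg.Agent.SLn ComplexConjugate MulAction

theorem irr_of_inner_sum_le {G I : Type*} [Group G] [Fintype G] [Fintype I] {f : I → G → ℂ}
    (hf : ∀ i, IsCharacter G (f i)) (h0 : ∀ i, f i ≠ 0) {m : ℕ}
    (hm : classInner (∑ i, f i) (∑ i, f i) = m) (hle : m ≤ Fintype.card I) :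
    (∀ i, IsIrrCharacter G (f i)) ∧ Function.Injective f := by
  classical
  choose n hn using fun i j => exists_nat_inner (hf i) (hf j)
  have h1 : ∀ i, 1 ≤ n i i := fun i => Nat.pos_of_ne_zero fun e =>
    h0 i (eq_zero_of_inner_self (by rw [hn, e, Nat.cast_zero]))
  have h2 : ∑ i, ∑ j, n i j = m := by
    simp only [inner_sum_left, inner_sum_right, hn] at hm
    rw [Finset.sum_comm]; exact_mod_cast hm
  have h3 : ∀ i, n i i ≤ ∑ j, n i j := fun i =>
    Finset.single_le_sum (f := n i) (fun _ _ => Nat.zero_le _) (Finset.mem_univ i)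
  have h4 : ∀ i, ∑ j, n i j = 1 := fun i =>
    ((Finset.sum_eq_sum_iff_of_le (s := Finset.univ) (f := fun _ => 1)
      (fun i _ => (h1 i).trans (h3 i))).mp (le_antisymm
        (Finset.sum_le_sum fun i _ => (h1 i).trans (h3 i)) (by simpa [h2] using hle)) i
          (Finset.mem_univ i)).symm
  have h5 : ∀ i, n i i = 1 := fun i => le_antisymm (h4 i ▸ h3 i) (h1 i)
  refine ⟨fun i => isIrr_of_inner_self (hf i) (by rw [hn, h5, Nat.cast_one]), fun i j e => ?_⟩
  by_contra hne
  have h6 : n i j = 1 := by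
    have := hn i j
    rw [← e, hn, h5] at this
    exact_mod_cast this.symm
  have := Finset.add_le_sum (f := n i) (fun _ _ => Nat.zero_le _) (Finset.mem_univ i)
    (Finset.mem_univ j) hne
  rw [h4, h5, h6] at this
  omega

theorem inner_perm_perm {G : Type*} [Group G] [Fintype G] (X Y : Type*) [MulAction G X]
    [MulAction G Y] [Finite X] [Finite Y] :
    classInner (fun g : G => (Nat.card (fixedBy X g) : ℂ)) (fun g => (Nat.card (fixedBy Y g) : ℂ)) =
      Nat.card (orbitRel.Quotient G (X × Y)) := by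
  classical
  have := Fintype.ofFinite (orbitRel.Quotient G (X × Y))
  have := fun g : G => Fintype.ofFinite (fixedBy (X × Y) g)
  have h := sum_card_fixedBy_eq_card_orbits_mul_card_group G (X × Y)
  simp only [← Nat.card_eq_fintype_card] at h
  rw [classInner, inv_mul_eq_iff_eq_mul₀ natCard_ne_zero, mul_comm, ← Nat.cast_mul, ← h,
    Nat.cast_sum]
  refine Finset.sum_congr rfl fun g _ => ?_
  rw [map_natCast, ← Nat.cast_mul, ← Nat.card_prod]
  congr 1
  exact Nat.card_congr
    { toFun := fun p => ⟨(p.1.1, p.2.1), Prod.ext p.1.2 p.2.2⟩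
      invFun := fun p => (⟨p.1.1, congrArg Prod.fst p.2⟩, ⟨p.1.2, congrArg Prod.snd p.2⟩)
      left_inv := fun _ => rfl
      right_inv := fun _ => rfl }

variable {ι F : Type*} [Fintype ι] [DecidableEq ι] [Field F]

/-- non-zero vectors -/
def NZ (ι F : Type*) [Field F] := {v : ι → F // v ≠ 0}

instance instFiniteNZ [Finite F] : Finite (NZ ι F) := by unfold NZ; infer_instance

instance instActGLNZ : MulAction (GL ι F) (NZ ι F) where
  smul g v := ⟨g.1 *ᵥ v.1, fun h => v.2 (by
    rw [← one_mulVec v.1, ← g.inv_val, ← mulVec_mulVec, h, mulVec_zero])⟩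
  one_smul v := Subtype.ext (one_mulVec _)
  mul_smul g h v := Subtype.ext (mulVec_mulVec _ _ _).symm

instance instActSLNZ : MulAction (SpecialLinearGroup ι F) (NZ ι F) :=
  MulAction.compHom _ SpecialLinearGroup.toGL

theorem GL_smul_NZ (g : GL ι F) (v : NZ ι F) : (g • v).1 = g.1 *ᵥ v.1 := rfl

theorem SL_smul_NZ (g : SpecialLinearGroup ι F) (v : NZ ι F) : (g • v).1 = g.1 *ᵥ v.1 := rfl

theorem card_orbits_NZ [Finite F] (hn : 3 ≤ Fintype.card ι) :
    Nat.card (orbitRel.Quotient (SpecialLinearGroup ι F) (NZ ι F × NZ ι F)) ≤ Nat.card F := by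
  have : Nonempty ι := Fintype.card_pos_iff.mp (by omega)
  obtain ⟨a, ha⟩ := exists_ne (0 : ι → F)
  obtain ⟨b, hb⟩ := exists_not_comb_pair hn a 0
  have hb' : ∀ c : F, b ≠ c • a := fun c => by simpa using hb c 0
  classical
  refine Nat.card_le_card_of_surjective (fun c : F => Quotient.mk _ (⟨a, ha⟩,
    if h : c = 0 then ⟨b, by simpa using hb' 0⟩ else ⟨c • a, smul_ne_zero h ha⟩)) fun p => ?_
  obtain ⟨⟨⟨x, hx⟩, ⟨y, hy⟩⟩, rfl⟩ := Quotient.exists_rep p
  by_cases h : ∀ c : F, y ≠ c • x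
  · obtain ⟨g, h1, h2⟩ := exists_SL_pair hn hx h ha hb'
    refine ⟨0, Quotient.sound ⟨g, Prod.ext (Subtype.ext h1) ?_⟩⟩
    exact (Subtype.ext h2).trans (dif_pos rfl).symm
  · push Not at h
    obtain ⟨c, rfl⟩ := h
    obtain ⟨g, h1⟩ := exists_SL_mulVec (by omega) hx ha
    have hc : c ≠ 0 := left_ne_zero_of_smul hy
    refine ⟨c, Quotient.sound ⟨g, Prod.ext (Subtype.ext h1) ?_⟩⟩
    exact (Subtype.ext ((mulVec_smul _ _ _).trans (congrArg _ h1))).trans (dif_neg hc).symm

/-- scalar matrices -/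
def scGL (ι : Type*) [Fintype ι] [DecidableEq ι] (F : Type*) [Field F] : Fˣ →* GL ι F :=
  Units.map (Matrix.scalar ι).toMonoidHom

theorem scGL_mulVec (c : Fˣ) (v : ι → F) : (scGL ι F c).1 *ᵥ v = c.1 • v := by
  simp [scGL]

theorem scGL_comm (c : Fˣ) (g : GL ι F) : g * scGL ι F c = scGL ι F c * g :=
  Units.ext (Matrix.scalar_commute _ (fun _ => Commute.all _ _) _).eq.symm

/-- the number of fixed non-zero vectors -/
noncomputable def fx (g : GL ι F) : ℕ := Nat.card (fixedBy (NZ ι F) g)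

theorem fx_one [Finite F] : fx (1 : GL ι F) = Nat.card F ^ Fintype.card ι - 1 := by
  rw [fx, fixedBy_one_eq_univ, Nat.card_univ, ← card_ne_zero_vec]; rfl

theorem fx_scalar {c : Fˣ} (hc : c ≠ 1) : fx (scGL ι F c) = 0 := by
  have : IsEmpty (fixedBy (NZ ι F) (scGL ι F c)) := ⟨fun ⟨v, hv⟩ => by
    have h := congrArg Subtype.val hv
    rw [GL_smul_NZ, scGL_mulVec] at h
    exact hc (Units.ext (smul_left_injective F v.2 (h.trans (one_smul _ _).symm)))⟩
  exact Nat.card_of_isEmpty

theorem isChar_fx [Finite F] : IsCharacter (GL ι F) (fun g => (fx g : ℂ)) := isChar_perm (NZ ι F)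

/-- the constituents of the permutation character on non-zero vectors -/
noncomputable def piA [Fintype F] [DecidableEq F] (α : Fˣ →* ℂˣ) (g : SpecialLinearGroup ι F) : ℂ :=
  (Nat.card Fˣ : ℂ)⁻¹ * ∑ c : Fˣ, conj (α c : ℂ) * fx (scGL ι F c * SpecialLinearGroup.toGL g)

variable [Fintype F] [DecidableEq F]

theorem isChar_piA (α : Fˣ →* ℂˣ) : IsCharacter (SpecialLinearGroup ι F) (piA α) :=
  isChar_weight (G := GL ι F) (scGL ι F) SpecialLinearGroup.toGL (fun c => (α c : ℂ)) (by simp)
    (fun s => ⟨Equiv.refl _, fun r => ⟨scGL_comm _ _, rfl⟩⟩) (χ := fun g => (fx g : ℂ)) isChar_fx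

theorem sum_piA [Fintype (Fˣ →* ℂˣ)] (g : SpecialLinearGroup ι F) :
    ∑ α, piA α g = fx (SpecialLinearGroup.toGL g) := by
  simp only [piA, ← Finset.mul_sum]
  rw [Finset.sum_comm, inv_mul_eq_iff_eq_mul₀ natCard_ne_zero, Finset.sum_eq_single 1]
  · rw [← card_unitsHom]; simp
  · intro c _ hc
    rw [← Finset.sum_mul, ← map_sum, sum_unitsHom_apply, regChar_of_ne hc]; simp
  · simp

theorem piA_one (α : Fˣ →* ℂˣ) : piA α (1 : SpecialLinearGroup ι F) =
    ((Fintype.card F ^ Fintype.card ι - 1) / (Fintype.card F - 1) : ℕ) := by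
  rw [piA, Finset.sum_eq_single 1]
  · have h1 : (Fintype.card F - 1) ∣ Fintype.card F ^ Fintype.card ι - 1 :=
      Nat.sub_one_dvd_pow_sub_one _ _
    have h2 : Fintype.card F - 1 ≠ 0 := by have := Fintype.one_lt_card (α := F); omega
    rw [Nat.cast_div h1 (by exact_mod_cast h2), Nat.card_units, Nat.card_eq_fintype_card,
      div_eq_inv_mul]
    simp only [map_one, Units.val_one, mul_one, one_mul, fx_one, Nat.card_eq_fintype_card]
  · intro c _ hc
    simp [fx_scalar hc]
  · simp

theorem inner_piA_one [Nonempty ι] : classInner (piA (ι := ι) (F := F) 1) 1 ≠ 0 := by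
  rw [inner_one_right]
  simp only [piA, ← Finset.mul_sum, MonoidHom.one_apply, Units.val_one, map_one, one_mul]
  refine mul_ne_zero (inv_ne_zero natCard_ne_zero) (mul_ne_zero (inv_ne_zero natCard_ne_zero) ?_)
  norm_cast
  simp only [Finset.sum_eq_zero_iff, Finset.mem_univ, true_imp_iff]
  intro h
  have := h 1 1
  rw [map_one, map_one, mul_one, fx_one] at this
  have := Nat.one_lt_pow (Fintype.card_pos (α := ι)).ne' (Finite.one_lt_card (α := F))
  omega

open scoped Classical in
/-- the non-trivial constituents -/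
noncomputable def chiA (α : Fˣ →* ℂˣ) : SpecialLinearGroup ι F → ℂ :=
  if α = 1 then piA α - 1 else piA α

theorem div_sub_one_eq {q n : ℕ} (hq : 2 ≤ q) (hn : 1 ≤ n) :
    (q ^ n - 1) / (q - 1) = (q ^ n - q) / (q - 1) + 1 := by
  have : q ≤ q ^ n := Nat.le_self_pow (by omega) q
  rw [← Nat.add_div_right _ (by omega)]
  congr 1; omega

theorem chiA_one_one [Nonempty ι] : chiA 1 (1 : SpecialLinearGroup ι F) =
    ((Fintype.card F ^ Fintype.card ι - Fintype.card F) / (Fintype.card F - 1) : ℕ) := by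
  rw [chiA, if_pos rfl, Pi.sub_apply, piA_one,
    div_sub_one_eq Fintype.one_lt_card Fintype.card_pos]
  simp

theorem chiA_spec [Fintype (Fˣ →* ℂˣ)] (hn : 3 ≤ Fintype.card ι) :
    (∀ α, IsIrrCharacter (SpecialLinearGroup ι F) (chiA α)) ∧
      Function.Injective (chiA (ι := ι) (F := F)) ∧ ∀ g : SpecialLinearGroup ι F,
        (fx (SpecialLinearGroup.toGL g) : ℂ) = 1 + ∑ α, chiA α g := by
  classical
  have : Nonempty ι := Fintype.card_pos_iff.mp (by omega)
  have hq : 2 ≤ Fintype.card F := Fintype.one_lt_card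
  have h3 : ∀ g : SpecialLinearGroup ι F,
      (fx (SpecialLinearGroup.toGL g) : ℂ) = 1 + ∑ α, chiA α g := fun g => by
    have : ∀ α, chiA α g = piA α g - if α = 1 then 1 else 0 := fun α => by
      rw [chiA]; split_ifs <;> simp
    simp [this, sum_piA]
  have h4 : 0 < (Fintype.card F ^ Fintype.card ι - Fintype.card F) / (Fintype.card F - 1) := by
    refine Nat.div_pos ?_ (by omega)
    have := Nat.pow_le_pow_right (show 0 < Fintype.card F by omega) (show 2 ≤ Fintype.card ι by omega)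
    have := Nat.mul_le_mul_left (Fintype.card F) hq
    rw [sq] at *
    omega
  have h5 : (∑ o : Option (Fˣ →* ℂˣ), o.elim 1 chiA : SpecialLinearGroup ι F → ℂ) =
      fun g => (Nat.card (fixedBy (NZ ι F) g) : ℂ) := by
    ext g
    rw [Fintype.sum_option, Pi.add_apply, Finset.sum_apply]
    exact (h3 g).symm
  have h6 : Fintype.card (Option (Fˣ →* ℂˣ)) = Nat.card F := by
    rw [Fintype.card_option, ← Nat.card_eq_fintype_card, card_unitsHom, Nat.card_units,
      Nat.sub_add_cancel Nat.card_pos]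
  obtain ⟨h1, h2⟩ := irr_of_inner_sum_le (G := SpecialLinearGroup ι F) (I := Option (Fˣ →* ℂˣ))
    (f := fun o => o.elim 1 chiA) (by
      rintro (_ | α)
      · exact isChar_one
      · simp only [Option.elim, chiA]
        split_ifs with h
        · subst h; exact isChar_sub_irr (isChar_piA 1) isIrr_one inner_piA_one
        · exact isChar_piA α) (by
      rintro (_ | α) e
      · exact one_ne_zero e
      · have e1 : chiA α 1 = 0 := congrFun e 1
        by_cases h : α = 1
        · subst h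
          rw [chiA_one_one] at e1
          exact h4.ne' (by exact_mod_cast e1)
        · rw [chiA, if_neg h, piA_one, div_sub_one_eq hq (by omega)] at e1
          exact Nat.succ_ne_zero _ (Nat.cast_eq_zero.mp e1))
    (by rw [h5, inner_perm_perm]) (h6 ▸ card_orbits_NZ hn)
  exact ⟨fun α => h1 (some α), fun α β e => Option.some_injective _ (h2 e), h3⟩

theorem exists_rep_of_irr {G : Type*} [Group G] {χ : G → ℂ} (h : IsIrrCharacter G χ) {d : ℕ}
    (hd : χ 1 = d) : ∃ ρ : Representation ℂ G (Fin d → ℂ), ρ.IsIrreducible := by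
  obtain ⟨n, ρ, hρ, rfl⟩ := h
  obtain rfl : n = d := by simpa using hd
  exact ⟨ρ, hρ⟩

end Cfsg.Agent.Deg
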