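import Cfsg.Agent.Lib.Deg.TvGen
import Cfsg.Agent.Lib.Deg.FW
import Cfsg.Agent.Lib.Deg.Orbit1

/-!
# Weights of the Siegel elements attached to a totally singular subspace
-/

set_option autoImplicit false

namespace Cfsg.Agent.Deg

open Module Matrix Cfsg.Agent.Forms Cfsg.Agent.Forms.Form Multiplicative Cfsg.Agent.SLn

variable {F : Type*} [Field F] {P : Param F} {V : Type*} [AddCommGroup V] [Module F V]
  {ι : Type*} [Fintype ι] [DecidableEq ι] {G : Type*} [Group G]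

/-- A totally singular subspace whose Siegel elements lie in `G`. -/
structure SiegelData (f : Form P V) (j : G →* f.Isom) (φ : (ι → F) →ₗ[F] V)
    (T : (ι → F) × (ι → F) → G) : Prop where
  inj : Function.Injective j
  φinj : Function.Injective φ
  Q : ∀ x, f.Q (φ x) = 0
  B : ∀ x y, f.B (φ x) (φ y) = 0
  T_eq : ∀ x y, j (T (x, y)) = TT f (φ x) (φ y) (Q x) (Q y) (B x y)

/-- matrices induced by `G` on the totally singular subspace -/
def Induced {f : Form P V} (j : G →* f.Isom) (φ : (ι → F) →ₗ[F] V) (g : Matrix ι ι F) : Prop :=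
  ∃ a : G, ∀ x, (j a).1 (φ x) = φ (g *ᵥ x)

namespace SiegelData

variable {f : Form P V} {j : G →* f.Isom} {φ : (ι → F) →ₗ[F] V} {T : (ι → F) × (ι → F) → G}
  (S : SiegelData f j φ T)
include S

theorem comm (p p' : (ι → F) × (ι → F)) : T p * T p' = T p' * T p := S.inj (by
  rw [map_mul, map_mul, S.T_eq, S.T_eq]
  apply Isom.ext; intro w
  simp only [Isom.mul_apply, TT_apply, B_sub_left, B_add_left, B_smul_left, S.B]
  module)

theorem add_left (x x' y : ι → F) : T (x + x', y) = T (x, y) * T (x', y) := S.inj (by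
  rw [map_mul, S.T_eq, S.T_eq, S.T_eq]
  apply Isom.ext; intro w
  simp only [Isom.mul_apply, TT_apply, B_sub_left, B_add_left, B_add_right, B_smul_left, S.B,
    map_add φ]
  module)

theorem add_right (x y y' : ι → F) : T (x, y + y') = T (x, y) * T (x, y') := S.inj (by
  rw [map_mul, S.T_eq, S.T_eq, S.T_eq]
  apply Isom.ext; intro w
  simp only [Isom.mul_apply, TT_apply, B_sub_left, B_add_left, B_add_right, B_smul_left, S.B,
    map_add φ]
  module)

theorem zero_left (y : ι → F) : T (0, y) = 1 := by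
  have := S.add_left 0 0 y
  rw [add_zero] at this
  exact mul_eq_left.mp this.symm

theorem smul (c : F) (x y : ι → F) : T (x, c • y) = T (P.σ c • x, y) := S.inj (by
  rw [S.T_eq, S.T_eq]
  apply Isom.ext; intro w
  simp only [TT_apply, B_smul_right, map_smul φ, P.σσ]
  module)

theorem swap (x y : ι → F) : T (y, x) = T (-P.ε • x, y) := S.inj (by
  rw [S.T_eq, S.T_eq]
  apply Isom.ext; intro w
  simp only [TT_apply, B_smul_right, map_smul φ, map_neg P.σ, P.σε]
  match_scalars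
  · ring
  · linear_combination (-f.B w (φ x)) * P.εε
  · ring)

theorem conj {a : G} {g : Matrix ι ι F} (h : ∀ x, (j a).1 (φ x) = φ (g *ᵥ x)) (x y : ι → F) :
    a * T (x, y) * a⁻¹ = T (g *ᵥ x, g *ᵥ y) := S.inj (by
  rw [map_mul, map_mul, map_inv, S.T_eq, S.T_eq, TT, eichler_conj]
  apply Isom.ext; intro w
  simp only [TT, eichler_apply, h])

theorem pow (x y : ι → F) (n : ℕ) : T (x, y) ^ n = T ((n : F) • x, y) := by
  induction n with
  | zero => simp [S.zero_left]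
  | succ n ih => rw [pow_succ, ih, Nat.cast_succ, add_smul, one_smul, S.add_left]

theorem surj [Finite F] {g : Matrix ι ι F} (h : Induced j φ g) :
    Function.Surjective (g *ᵥ · : (ι → F) → ι → F) := by
  obtain ⟨a, ha⟩ := h
  refine Finite.injective_iff_surjective.mp fun x y e => S.φinj ((j a).1.injective ?_)
  rw [ha, ha]; exact congrArg φ e

variable {K W : Type*} [Field K] [AddCommGroup W] [Module K W] {ρ : G →* End K W}

omit S in
theorem fw_of_eq {A : Type*} {t : A → G} {l : A → K} (hl : IsFW (fun p => ρ (t p)) l) {a b : A}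
    (h : t a = t b) : l a = l b := by
  obtain ⟨v, hv, e⟩ := hl
  exact smul_left_injective K hv (by simp only [← e, h])

omit S in
theorem fw_of_mul {A : Type*} {t : A → G} {l : A → K} (hl : IsFW (fun p => ρ (t p)) l) {a b c : A}
    (h : t a = t b * t c) : l a = l b * l c := by
  obtain ⟨v, hv, e⟩ := hl
  refine smul_left_injective K hv ?_
  simp only [← e, h, map_mul, End.mul_apply]
  rw [e c, map_smul, e b, smul_smul, mul_comm]

omit S in
theorem fw_of_one {A : Type*} {t : A → G} {l : A → K} (hl : IsFW (fun p => ρ (t p)) l) {a : A}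
    (h : t a = 1) : l a = 1 := by
  obtain ⟨v, hv, e⟩ := hl
  exact smul_left_injective K hv (by simp [← e, h])

omit S in
theorem fw_conj {A : Type*} {t : A → G} {l : A → K} (hl : IsFW (fun p => ρ (t p)) l) (a : G)
    (τ : A → A) (h : ∀ p, a * t p * a⁻¹ = t (τ p)) : IsFW (fun p => ρ (t p)) (l ∘ τ) := by
  obtain ⟨v, hv, e⟩ := hl
  refine ⟨ρ a⁻¹ v, rep_apply_ne_zero ρ _ hv, fun p => ?_⟩
  rw [← End.mul_apply, ← map_mul, show t p * a⁻¹ = a⁻¹ * t (τ p) by rw [← h]; group, map_mul,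
    End.mul_apply, e, map_smul]; rfl

theorem exists_form [Finite F] {ψ : Multiplicative F →* K} (hψ : ψ ≠ 1)
    {l : (ι → F) × (ι → F) → K} (hl : IsFW (fun p => ρ (T p)) l) :
    ∃ B : (ι → F) →ₗ[F] (ι → F) →ₛₗ[P.σ] F, ∀ x y, l (x, y) = ψ (ofAdd (B x y)) := by
  choose h hh using fun x y => exists_psi_mul hψ (fun c : F => l (c • x, y))
    (fw_of_one hl (by rw [zero_smul, S.zero_left]))
    (fun a b => fw_of_mul hl (by rw [add_smul, S.add_left]))
  refine ⟨LinearMap.mk₂'ₛₗ (RingHom.id F) P.σ h (fun x x' y => ?_) (fun c x y => ?_)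
    (fun x y y' => ?_) (fun c x y => ?_), fun x y => by simpa using hh x y 1⟩ <;>
    refine eq_of_forall_psi hψ fun t => ?_
  · rw [mul_add, ofAdd_add, map_mul ψ, ← hh, ← hh, ← hh]
    exact fw_of_mul hl (by rw [smul_add, S.add_left])
  · rw [smul_eq_mul, ← mul_assoc, ← hh, ← hh, smul_smul]; rfl
  · rw [mul_add, ofAdd_add, map_mul ψ, ← hh, ← hh, ← hh]
    exact fw_of_mul hl (S.add_right _ _ _)
  · rw [smul_eq_mul, ← mul_assoc, ← hh, ← hh]
    exact fw_of_eq hl (by rw [S.smul, smul_smul, mul_comm])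

theorem exists_fw [Finite F] [IsAlgClosed K] [FiniteDimensional K W] (hK : ringChar K ≠ ringChar F)
    {p : (ι → F) × (ι → F)} (h : ρ (T p) ≠ 1) : ∃ l, IsFW (fun p => ρ (T p)) l ∧ l p ≠ 1 :=
  exists_fw_ne_one _ (fun a b => by rw [← map_mul, S.comm, map_mul]) (natCast_ringChar_ne_zero hK)
    (by rw [← map_pow, S.pow, ringChar.Nat.cast_ringChar, zero_smul, S.zero_left, map_one]) h

theorem exists_psi {l : (ι → F) × (ι → F) → K} (hl : IsFW (fun p => ρ (T p)) l)
    {p : (ι → F) × (ι → F)} (h : l p ≠ 1) : ∃ ψ : Multiplicative F →* K, ψ ≠ 1 :=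
  ⟨{ toFun := fun c => l (c.toAdd • p.1, p.2)
     map_one' := fw_of_one hl (by rw [toAdd_one, zero_smul, S.zero_left])
     map_mul' := fun a b => fw_of_mul hl (by rw [toAdd_mul, add_smul, S.add_left]) },
    fun e => h (by simpa using DFunLike.congr_fun e (ofAdd 1))⟩

/-- The number of weights which are non-trivial on some transvection. -/
theorem card_ge [Finite F] [IsAlgClosed K] [FiniteDimensional K W] (hK : ringChar K ≠ ringChar F)
    (hok : BigSet (Induced j φ)) {k : ℕ} (hk0 : 0 < k) (hk : ∀ s, s * P.σ s = s ^ k)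
    {c : F} {x₀ : ι → F} (h : ρ (T (c • x₀, x₀)) ≠ 1) :
    Nat.card F ^ Fintype.card ι - 1 ≤
      k * Nat.card {l // IsFW (fun p => ρ (T p)) l ∧ ∃ (c : F) (x : ι → F), l (c • x, x) ≠ 1} := by
  obtain ⟨l, hl, hl1⟩ := S.exists_fw hK h
  obtain ⟨ψ, hψ⟩ := S.exists_psi hl hl1
  have := finite_fw' (fun p => ρ (T p)) (fun l => ∃ (c : F) (x : ι → F), l (c • x, x) ≠ 1)
  choose B hB using fun l : {l // IsFW (fun p => ρ (T p)) l ∧
    ∃ (c : F) (x : ι → F), l (c • x, x) ≠ 1} => S.exists_form hψ l.2.1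
  refine card_forms_ge B (fun C x y e => eq_of_forall_psi hψ fun t => ?_) hok (fun g hg C => ?_)
    hk0 hk (C₀ := ⟨l, hl, c, x₀, hl1⟩) (x₀ := x₀) fun e => hl1 ?_
  · have h1 : C.1 (t • y, x) = C.1 ((-P.ε * P.σ t) • x, y) :=
      fw_of_eq C.2.1 (by rw [mul_smul, ← S.swap, S.smul, P.σσ])
    rw [hB, hB] at h1
    simpa [e] using h1
  · obtain ⟨a, ha⟩ := id hg
    obtain ⟨c, x, hx⟩ := C.2.2
    obtain ⟨x, rfl⟩ := S.surj hg x
    refine ⟨⟨_, fw_conj C.2.1 a (fun p => (g *ᵥ p.1, g *ᵥ p.2)) fun p => S.conj ha _ _, c, x,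
      by simpa [mulVec_smul] using hx⟩, fun x y => eq_of_forall_psi hψ fun t => ?_⟩
    have e : ∀ C x y, t * B C x y = B C (t • x) y := fun C x y => by simp
    rw [e, e, ← hB, ← hB]
    exact congrArg (fun z => C.1 (z, _)) (mulVec_smul _ _ _)
  · have := hB ⟨l, hl, c, x₀, hl1⟩ (c • x₀) x₀
    simpa [e] using this

end SiegelData

theorem bigSet_of_tv {ok : Matrix ι ι F → Prop} (hn : 2 ≤ Fintype.card ι)
    (mul : ∀ g h, ok g → ok h → ok (g * h))
    (tv : ∀ w φ, φ ⬝ᵥ w = 0 → ok (1 + vecMulVec w φ)) : BigSet ok := by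
  have h1 : ∀ x y : ι → F, x ≠ 0 → (∀ c : F, y ≠ c • x) → ∃ g, ok g ∧ g *ᵥ x = y := by
    intro x y hx hy
    obtain ⟨ρ, h1, h2⟩ := exists_dot_single (a := y - x) (y := x) (by
      intro s hs
      by_cases h : s = 0
      · exact hx (by rw [hs, h, zero_smul])
      · refine hy (s⁻¹ + 1) ?_
        rw [add_smul, one_smul, ← sub_eq_iff_eq_add, eq_inv_smul_iff₀ h, ← hs])
    exact ⟨_, tv _ _ h1, by rw [add_mulVec, one_mulVec, vecMulVec_mulVec, h2]; simp⟩
  refine ⟨mul, tv, fun x y hx hy => ?_⟩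
  by_cases h : ∀ c : F, y ≠ c • x
  · exact h1 x y hx h
  push Not at h
  obtain ⟨c, rfl⟩ := h
  obtain ⟨z, hz⟩ := exists_notMem_of_finrank_lt (F ∙ x) (by rw [finrank_span_singleton hx]; omega)
  have hz0 : z ≠ 0 := by rintro rfl; exact hz (Submodule.zero_mem _)
  obtain ⟨g, hg, e⟩ := h1 x z hx fun c hc => hz (Submodule.mem_span_singleton.mpr ⟨c, hc.symm⟩)
  obtain ⟨g', hg', e'⟩ := h1 z (c • x) hz0 fun d hd => hz (by
    have hd0 : d ≠ 0 := by rintro rfl; exact hy (by rw [hd, zero_smul])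
    exact Submodule.mem_span_singleton.mpr ⟨d⁻¹ * c, by rw [mul_smul, hd, inv_smul_smul₀ hd0]⟩)
  exact ⟨g' * g, mul _ _ hg' hg, by rw [← mulVec_mulVec, e, e']⟩

theorem Induced.mul {f : Form P V} {j : G →* f.Isom} {φ : (ι → F) →ₗ[F] V} (g h : Matrix ι ι F)
    (hg : Induced j φ g) (hh : Induced j φ h) : Induced j φ (g * h) := by
  obtain ⟨a, ha⟩ := hg
  obtain ⟨b, hb⟩ := hh
  exact ⟨a * b, fun x => by rw [map_mul, Isom.mul_apply, hb, ha, mulVec_mulVec]⟩

/-- In the full isometry group every invertible matrix is induced. -/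
theorem induced_of_det_ne_zero [FiniteDimensional F V] {f : Form P V} (hf : f.Nondeg)
    {j : G →* f.Isom} (hj : Function.Surjective j) {φ : (ι → F) →ₗ[F] V}
    (hφ : Function.Injective φ) (hQ : ∀ x, f.Q (φ x) = 0) (hB : ∀ x y, f.B (φ x) (φ y) = 0)
    {g : Matrix ι ι F} (hg : g.det ≠ 0) : Induced j φ g := by
  obtain ⟨a, ha⟩ := hf.witt_maps φ (φ ∘ₗ Matrix.toLin' g) hφ
    (hφ.comp (mulVec_injective_of_isUnit ((isUnit_iff_isUnit_det g).mpr hg.isUnit)))
    (fun x y => by simp [hB]) (fun x => by simp [hQ])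
  obtain ⟨a, rfl⟩ := hj a
  exact ⟨a, ha⟩

theorem bigSet_induced [FiniteDimensional F V] {f : Form P V} (hf : f.Nondeg)
    {j : G →* f.Isom} (hj : Function.Surjective j) {φ : (ι → F) →ₗ[F] V}
    (hφ : Function.Injective φ) (hQ : ∀ x, f.Q (φ x) = 0) (hB : ∀ x y, f.B (φ x) (φ y) = 0) :
    BigSet (Induced j φ) :=
  ⟨Induced.mul, fun w ψ h => induced_of_det_ne_zero hf hj hφ hQ hB (bigSet_GL.tv w ψ h),
    fun x y hx hy => by
      obtain ⟨g, hg, e⟩ := bigSet_GL.trans x y hx hy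
      exact ⟨g, induced_of_det_ne_zero hf hj hφ hQ hB hg, e⟩⟩

theorem exists_emb [FiniteDimensional F V] {f : Form P V} (hf : f.Nondeg) {φ : (ι → F) →ₗ[F] V}
    (hφ : Function.Injective φ) (hQ : ∀ x, f.Q (φ x) = 0) (hB : ∀ x y, f.B (φ x) (φ y) = 0)
    {x₀ : ι → F} (hx : x₀ ≠ 0) {d : V} (hd : d ≠ 0) (hq : f.Q d = 0) :
    ∃ φ : (ι → F) →ₗ[F] V, Function.Injective φ ∧ (∀ x, f.Q (φ x) = 0) ∧
      (∀ x y, f.B (φ x) (φ y) = 0) ∧ φ x₀ = d := by
  obtain ⟨g, hg⟩ := hf.witt_one (x := φ x₀) (y := d) (by simpa using hφ.ne hx) hd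
    (by rw [hB, f.B_self_of_Q hq]) (by rw [hQ, hq])
  exact ⟨(g.1 : V →ₗ[F] V) ∘ₗ φ, g.1.injective.comp hφ, fun x => (Isom.map_Q g _).trans (hQ x),
    fun x y => (Isom.map_B g _ _).trans (hB x y), hg⟩

theorem tr_zero {f : Form P V} (l : F) (hd : f.Q 0 = 0) (hl : Lam0 P l) : tr f 0 l hd hl = 1 :=
  Isom.ext fun w => by simp [tr_apply]

/-- The lower bound `(qⁿ - 1) / 2` for symplectic groups in odd characteristic. -/
theorem sp_lower [Finite F] [FiniteDimensional F V] [Nonempty ι] (h2 : (2 : F) ≠ 0)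
    {f : Form (Param.sp F) V} (hf : f.Nondeg) (j : G ≃* f.Isom) {φ : (ι → F) →ₗ[F] V}
    (hφ : Function.Injective φ) (hB : ∀ x y, f.B (φ x) (φ y) = 0) {K W : Type*} [Field K]
    [AddCommGroup W] [Module K W] [IsAlgClosed K] [FiniteDimensional K W]
    (hK : ringChar K ≠ ringChar F) (ρ : G →* End K W) (hρ : ∃ g, ρ g ≠ 1) :
    Nat.card F ^ Fintype.card ι - 1 ≤ 2 * finrank K W := by
  obtain ⟨d, l, hd, hl, h⟩ : ∃ d l hd hl, ρ (j.symm (tr f d l hd hl)) ≠ 1 := by
    by_contra hc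
    push Not at hc
    obtain ⟨g, hg⟩ := hρ
    have := HasTr.sp_eq_top hf (N := ρ.ker.comap j.symm.toMonoidHom) hc
    have h1 : j g ∈ ρ.ker.comap j.symm.toMonoidHom := this ▸ Subgroup.mem_top _
    exact hg (by simpa using h1)
  have hd0 : d ≠ 0 := by rintro rfl; exact h (by rw [tr_zero, map_one, map_one])
  obtain ⟨x₀, hx₀⟩ := exists_ne (0 : ι → F)
  obtain ⟨φ, hφ, hQ, hB, e⟩ := exists_emb hf hφ (fun x => f.sp_Q _) hB hx₀ hd0 hd
  have S : SiegelData f (j : G →* f.Isom) φ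
      (fun p => j.symm (TT f (φ p.1) (φ p.2) (hQ _) (hQ _) (hB _ _))) :=
    ⟨j.injective, hφ, hQ, hB, fun x y => by simp⟩
  refine (S.card_ge (ρ := ρ) hK (bigSet_induced hf j.surjective hφ hQ hB) two_pos
    (fun s => (sq s).symm)
    (c := l / 2) (x₀ := x₀) ?_).trans (Nat.mul_le_mul_left _ (card_fw_le _ _))
  convert h using 3
  apply Isom.ext; intro w
  simp only [TT_apply, tr_apply, map_smul, e, sp_B_smul_right, Param.sp_ε]
  match_scalars
  · rfl
  · field_simp; ring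

/-- the standard Lagrangian subspace -/
def lag (m : ℕ) (F : Type*) [Field F] : (Fin m → F) →ₗ[F] (Fin m ⊕ Fin m → F) where
  toFun x := Sum.elim x 0
  map_add' x y := by ext (i | i) <;> simp
  map_smul' c x := by ext (i | i) <;> simp

theorem lag_injective (m : ℕ) : Function.Injective (lag m F) := fun x y h =>
  funext fun i => congrFun h (.inl i)

theorem lag_B (m : ℕ) (x y : Fin m → F) : (spForm m F).B (lag m F x) (lag m F y) = 0 := by
  simp [spForm_B', lag]

theorem sp_lower' [Finite F] (h2 : (2 : F) ≠ 0) {n : ℕ} (hn : 1 ≤ n) {K W : Type*} [Field K]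
    [AddCommGroup W] [Module K W] [IsAlgClosed K] [FiniteDimensional K W]
    (hK : ringChar K ≠ ringChar F) (ρ : symplecticGroup (Fin n) F →* End K W) (hρ : ∃ g, ρ g ≠ 1) :
    Nat.card F ^ n - 1 ≤ 2 * finrank K W := by
  have : Nonempty (Fin n) := ⟨⟨0, hn⟩⟩
  simpa using sp_lower h2 (spForm_nondeg n) (spEquiv n F) (lag_injective n) (lag_B n) hK ρ hρ

theorem sp_not_comm [FiniteDimensional F V] [Nontrivial V] {f : Form (Param.sp F) V}
    (hf : f.Nondeg) : ∃ a b : f.Isom, a * b ≠ b * a := by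
  obtain ⟨u, hu⟩ := exists_ne (0 : V)
  obtain ⟨e, h⟩ := hf.exists_hypPair (f.sp_Q u) hu
  have h0 : Lam0 (Param.sp F) 1 := ⟨rfl, by simp⟩
  refine ⟨tr f u 1 h.Qu h0, tr f e 1 h.Qe h0, fun hc => hu ?_⟩
  have := congrArg (fun g : f.Isom => g.1 u) hc
  simpa [Isom.mul_apply, tr_apply, h.Buu, h.Bue, h.Beu] using this

end Cfsg.Agent.Deg
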