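import Cfsg.Agent.Lib.Deg.Siegel
import Cfsg.Agent.Lib.Deg.Orbit2

/-!
# Weights of the Siegel radical of a symplectic group as quadratic forms
-/

set_option autoImplicit false

namespace Cfsg.Agent.Deg

open Module Matrix Cfsg.Agent.Forms Cfsg.Agent.Forms.Form Multiplicative Cfsg.Agent.SLn

variable {F : Type*} [Field F] {V : Type*} [AddCommGroup V] [Module F V]
  {ι : Type*} [Fintype ι] [DecidableEq ι] {G : Type*} [Group G]

theorem lam0_sp (l : F) : Lam0 (Param.sp F) l := ⟨rfl, by simp⟩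

/-- symplectic transvections -/
def spTr (f : Form (Param.sp F) V) (d : V) (l : F) : f.Isom := tr f d l (f.sp_Q d) (lam0_sp l)

theorem spTr_apply (f : Form (Param.sp F) V) (d : V) (l : F) (w : V) :
    (spTr f d l).1 w = w + (l * f.B w d) • d := by
  simp [spTr, tr_apply]

theorem spTr_conj {f : Form (Param.sp F) V} (g : f.Isom) (d : V) (l : F) :
    g * spTr f d l * g⁻¹ = spTr f (g.1 d) l := tr_conj _ _ _ _ _ _

theorem spTr_add (f : Form (Param.sp F) V) (d : V) (l m : F) :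
    spTr f d (l + m) = spTr f d l * spTr f d m := Isom.ext fun w => by
  simp only [Isom.mul_apply, spTr_apply, B_add_left, B_smul_left, sp_B_self]; module

theorem spTr_zero (f : Form (Param.sp F) V) (d : V) : spTr f d 0 = 1 :=
  Isom.ext fun w => by simp [spTr_apply]

theorem spTr_smul (f : Form (Param.sp F) V) (c : F) (d : V) (l : F) :
    spTr f (c • d) l = spTr f d (c * c * l) := Isom.ext fun w => by
  simp only [spTr_apply, sp_B_smul_right]; module

theorem spTr_add_left {f : Form (Param.sp F) V} {x y : V} (h : f.B x y = 0) (l : F) :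
    spTr f (x + y) l = spTr f x l * spTr f y l *
      TT f (l • x) y (f.sp_Q _) (f.sp_Q _) (by rw [B_smul_left, h, mul_zero]) := by
  have := tr_add (f.sp_Q x) (f.sp_Q y) h (lam0_sp l)
  simpa [spTr] using this

theorem sp_eq_top_of_TT [FiniteDimensional F V] {f : Form (Param.sp F) V} (hf : f.Nondeg)
    {N : Subgroup f.Isom} [N.Normal] {x₀ y₀ : V} (h0 : LinearIndependent F ![x₀, y₀])
    (hB : f.B x₀ y₀ = 0) (hN : TT f x₀ y₀ (f.sp_Q _) (f.sp_Q _) hB ∈ N) : N = ⊤ := by
  have h1 : ∀ x y (h : f.B x y = 0), LinearIndependent F ![x, y] →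
      TT f x y (f.sp_Q _) (f.sp_Q _) h ∈ N := fun x y h hxy => by
    obtain ⟨g, rfl, rfl⟩ := hf.witt_two h0 hxy (by simp [sp_B_self]) (by simp [sp_B_self])
      (by rw [h, hB]) (by simp [sp_Q]) (by simp [sp_Q])
    have := Subgroup.Normal.conj_mem inferInstance _ hN g
    rw [TT, eichler_conj] at this
    exact this
  refine HasTr.sp_eq_top hf fun d l _ _ => ?_
  change spTr f d l ∈ N
  by_cases hl : l = 0
  · rw [hl, spTr_zero]; exact N.one_mem
  by_cases hd : d = 0
  · rw [hd, spTr, tr_zero]; exact N.one_mem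
  obtain ⟨g, rfl⟩ := hf.witt_one (x := y₀) (y := d) (h0.ne_zero 1) hd (by simp [sp_B_self])
    (by simp [sp_Q])
  have h2 : f.B (g.1 x₀) (g.1 y₀) = 0 := by rw [Isom.map_B, hB]
  have h3 := LinearIndependent.pair_iff.mp h0
  have h4 : g.1 x₀ ∉ F ∙ g.1 y₀ := fun h => by
    obtain ⟨c, hc⟩ := Submodule.mem_span_singleton.mp h
    rw [← map_smul] at hc
    exact one_ne_zero (h3 1 (-c) (by rw [← g.1.injective hc]; module)).1
  obtain ⟨y, hy1, hy2⟩ := hf.exists_orth_eq_one h4
  have hy3 := hy1 _ (Submodule.mem_span_singleton_self _)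
  have h5 := h1 (g.1 y₀) y hy3 (LinearIndependent.pair_iff.mpr fun s t e => by
    have := congrArg (f.B (g.1 x₀)) e
    simp only [B_add_right, sp_B_smul_right, h2, hy2, map_zero] at this
    have ht : t = 0 := by simpa using this
    exact ⟨by simpa [ht, hd] using e, ht⟩)
  have h6 := h1 (l • g.1 x₀) (g.1 y₀) (by rw [B_smul_left, h2, mul_zero])
    (LinearIndependent.pair_iff.mpr fun s t e => by
      have := h3 (s * l) t (g.1.injective (by simpa [mul_smul] using e))
      exact ⟨by simpa [hl] using this.1, this.2⟩)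
  set E := TT f (g.1 y₀) y (f.sp_Q _) (f.sp_Q _) hy3
  have h7 : E * spTr f (g.1 x₀) l * E⁻¹ = spTr f (g.1 x₀ + g.1 y₀) l := by
    rw [spTr_conj]; simp [E, TT_apply, h2, hy2]
  have h8 : (spTr f (g.1 x₀) l)⁻¹ * (E * spTr f (g.1 x₀) l * E⁻¹) ∈ N := by
    rw [← mul_assoc, ← mul_assoc]
    exact N.mul_mem (Subgroup.Normal.conj_mem' inferInstance _ h5 _) (N.inv_mem h5)
  rw [h7, spTr_add_left h2, mul_assoc, inv_mul_cancel_left] at h8
  exact (N.mul_mem_cancel_right h6).mp h8

section weights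

variable {f : Form (Param.sp F) V} (j : G ≃* f.Isom) {φ : (ι → F) →ₗ[F] V}
  (hB : ∀ x y, f.B (φ x) (φ y) = 0)

/-- the Siegel elements -/
def sgT (p : (ι → F) × (ι → F)) : G := j.symm (TT f (φ p.1) (φ p.2) (f.sp_Q _) (f.sp_Q _) (hB _ _))

/-- transvections and Siegel elements attached to a totally isotropic subspace -/
def sgF : ((ι → F) × F) ⊕ ((ι → F) × (ι → F)) → G :=
  Sum.elim (fun p => j.symm (spTr f (φ p.1) p.2)) (sgT j hB)

theorem siegelData (hφ : Function.Injective φ) : SiegelData f (j : G →* f.Isom) φ (sgT j hB) :=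
  ⟨j.injective, hφ, fun _ => f.sp_Q _, hB, fun x y => by simp [sgT]⟩

theorem sgF_comm (a b) : sgF j hB a * sgF j hB b = sgF j hB b * sgF j hB a := by
  apply j.injective
  apply Isom.ext; intro w
  rcases a with a | a <;> rcases b with b | b <;>
    simp only [sgF, sgT, Sum.elim_inl, Sum.elim_inr, map_mul, MulEquiv.apply_symm_apply,
      Isom.mul_apply, TT_apply, spTr_apply, B_sub_left, B_add_left, B_smul_left, hB] <;> module

theorem sgF_conj {a : G} {g : Matrix ι ι F} (h : ∀ x, (j a).1 (φ x) = φ (g *ᵥ x)) (p) :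
    a * sgF j hB p * a⁻¹ =
      sgF j hB (Sum.map (Prod.map (g *ᵥ ·) id) (Prod.map (g *ᵥ ·) (g *ᵥ ·)) p) := by
  apply j.injective
  rcases p with p | p
  · simp [sgF, spTr_conj, h]
  · simp only [sgF, sgT, Sum.elim_inr, Sum.map_inr, map_mul, map_inv, MulEquiv.apply_symm_apply,
      TT, eichler_conj]
    apply Isom.ext; intro w
    simp [eichler_apply, h]

variable {K W : Type*} [Field K] [AddCommGroup W] [Module K W] {ρ : G →* End K W}

theorem exists_quad [Finite F] (hφ : Function.Injective φ) {ψ : Multiplicative F →* K} (hψ : ψ ≠ 1)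
    {l} (hl : IsFW (fun p => ρ (sgF j hB p)) l) : ∃ Q : Form (Param.orth F) (ι → F),
      (∀ x c, l (.inl (x, c)) = ψ (ofAdd (c * Q.Q x))) ∧
      ∀ x y, l (.inr (x, y)) = ψ (ofAdd (Q.B x y)) := by
  obtain ⟨B, hB'⟩ : ∃ B : (ι → F) →ₗ[F] (ι → F) →ₗ[F] F,
      ∀ x y, (l ∘ .inr) (x, y) = ψ (ofAdd (B x y)) := (siegelData j hB hφ).exists_form (ρ := ρ) hψ (l := l ∘ .inr)
    (by obtain ⟨v, hv, e⟩ := hl; exact ⟨v, hv, fun p => e (.inr p)⟩)
  choose Q hQ using fun x => exists_psi_mul hψ (fun c : F => l (.inl (x, c)))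
    (SiegelData.fw_of_one hl (by simp [sgF, spTr_zero]))
    (fun a b => SiegelData.fw_of_mul hl (by simp [sgF, spTr_add]))
  refine ⟨Form.ofQuad Q B (fun x y => ?_) (fun c x => ?_), hQ, hB'⟩ <;>
    refine eq_of_forall_psi hψ fun t => ?_
  · have e : t * B x y = B (t • x) y := by simp
    obtain ⟨v, hv, e'⟩ := hl
    rw [mul_add, mul_add, ofAdd_add, ofAdd_add, map_mul ψ, map_mul ψ, ← hQ, ← hQ, ← hQ, e, ← hB']
    refine smul_left_injective K hv ?_
    have h1 : sgF j hB (.inl (x + y, t)) =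
        sgF j hB (.inl (x, t)) * sgF j hB (.inl (y, t)) * sgF j hB (.inr (t • x, y)) := by
      simp only [sgF, sgT, Sum.elim_inl, Sum.elim_inr, map_add, spTr_add_left (hB x y), map_mul,
        map_smul φ]
    simp only [← e', h1, map_mul, End.mul_apply]
    simp only [e', map_smul, smul_smul, Function.comp_apply]
    congr 1; ring
  · rw [← mul_assoc, ← hQ, ← hQ]
    exact SiegelData.fw_of_eq hl (by simp [sgF, spTr_smul, mul_comm])

theorem quad_inv [Finite F] [FiniteDimensional F V] (hf : f.Nondeg) (hφ : Function.Injective φ)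
    {ψ : Multiplicative F →* K} (hψ : ψ ≠ 1)
    (Q : {l // IsFW (fun p => ρ (sgF j hB p)) l} → Form (Param.orth F) (ι → F))
    (hQ : ∀ l x c, l.1 (.inl (x, c)) = ψ (ofAdd (c * (Q l).Q x))) (g : Matrix ι ι F)
    (hg : g.det ≠ 0) (C) : ∃ C', ∀ x, (Q C').Q x = (Q C).Q (g *ᵥ x) := by
  obtain ⟨a, ha⟩ := induced_of_det_ne_zero hf (j := (j : G →* f.Isom)) j.surjective hφ
    (fun _ => f.sp_Q _) hB hg
  exact ⟨⟨_, SiegelData.fw_conj C.2 a _ (sgF_conj j hB ha)⟩, fun x =>
    eq_of_forall_psi hψ fun t => by rw [← hQ, ← hQ]; rfl⟩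

end weights

/-- The lower bound for symplectic groups in characteristic two. -/
theorem sp_lower_two [Finite F] [FiniteDimensional F V] (hn : 2 ≤ Fintype.card ι) (h2 : (2 : F) = 0)
    {f : Form (Param.sp F) V} (hf : f.Nondeg) (j : G ≃* f.Isom) {φ : (ι → F) →ₗ[F] V}
    (hφ : Function.Injective φ) (hB : ∀ x y, f.B (φ x) (φ y) = 0) {K W : Type*} [Field K]
    [AddCommGroup W] [Module K W] [IsAlgClosed K] [FiniteDimensional K W]
    (hK : ringChar K ≠ ringChar F) (ρ : G →* End K W) (hρ : ∃ g, ρ g ≠ 1) :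
    (Nat.card F ^ Fintype.card ι - 1) * (Nat.card F ^ Fintype.card ι - Nat.card F) ≤
      2 * (Nat.card F + 1) * finrank K W := by
  obtain ⟨a, b, hab⟩ := Fintype.exists_pair_of_one_lt_card hn
  have h : ρ (sgT j hB (Pi.single a 1, Pi.single b 1)) ≠ 1 := fun h => by
    obtain ⟨g, hg⟩ := hρ
    have := sp_eq_top_of_TT hf (N := ρ.ker.comap j.symm.toMonoidHom)
      (x₀ := φ (Pi.single a 1)) (y₀ := φ (Pi.single b 1))
      (LinearIndependent.pair_iff.mpr fun s t e => by
        have e' : s • (Pi.single a 1 : ι → F) + t • Pi.single b 1 = 0 := hφ (by simpa using e)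
        exact ⟨by simpa [hab] using congrFun e' a, by simpa [hab] using congrFun e' b⟩) (hB _ _) h
    have h1 : j g ∈ ρ.ker.comap j.symm.toMonoidHom := this ▸ Subgroup.mem_top _
    exact hg (by simpa using h1)
  have S := siegelData j hB hφ
  obtain ⟨l, hl, hl1⟩ := exists_fw_ne_one (fun p => ρ (sgF j hB p))
    (fun a b => by rw [← map_mul, sgF_comm, map_mul]) (a := .inr (Pi.single a 1, Pi.single b 1))
    (natCast_ringChar_ne_zero hK) (by
      simp only [sgF, Sum.elim_inr]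
      rw [← map_pow, S.pow, ringChar.Nat.cast_ringChar, zero_smul, S.zero_left, map_one]) h
  obtain ⟨ψ, hψ⟩ := S.exists_psi (ρ := ρ) (l := l ∘ .inr)
    (by obtain ⟨v, hv, e⟩ := hl; exact ⟨v, hv, fun p => e (.inr p)⟩) hl1
  choose Q hQ hQ' using fun l : {l // IsFW (fun p => ρ (sgF j hB p)) l} =>
    exists_quad j hB hφ hψ l.2
  have := finite_fw (fun p => ρ (sgF j hB p))
  refine (card_quad_ge Q (quad_inv j hB hf hφ hψ Q hQ) (C₀ := ⟨l, hl⟩) (x₁ := Pi.single a 1)
    (x₂ := Pi.single b 1) fun e => hl1 ?_).trans (Nat.mul_le_mul_left _ ?_)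
  · rw [show (4 : F) = 2 * 2 by norm_num, h2] at e
    have e' := pow_eq_zero_iff two_ne_zero |>.mp (e.trans (by simp))
    simpa [e'] using hQ' ⟨l, hl⟩ (Pi.single a 1) (Pi.single b 1)
  · simpa using card_fw_le (fun p => ρ (sgF j hB p)) fun _ => True

end Cfsg.Agent.Deg
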