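import Cfsg.Agent.Lib.Deg.Siegel
import Cfsg.Agent.Lib.Forms.Gram
import Cfsg.Agent.Lib.Forms.Orth

/-!
# Lower bounds for the degrees of representations of special unitary groups
-/

set_option autoImplicit false

namespace Cfsg.Agent.Deg

open Module Matrix Cfsg.Agent.Forms Cfsg.Agent.Forms.Form Multiplicative Cfsg.Agent.SLn

variable {F : Type*} [Field F] {V : Type*} [AddCommGroup V] [Module F V]
  {ι : Type*} [Fintype ι] [DecidableEq ι]

theorem eichler_mem_SIsom [FiniteDimensional F V] {P : Param F} (f : Form P V) (u v : V) (l : F)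
    (hu hv h) : f.eichler u v l hu hv h ∈ f.SIsom := by
  have : ((f.eichler u v l hu hv h).1 : V →ₗ[F] V) =
      LinearMap.transvection (-(P.ε • f.B.flip v + (P.ε * l - P.ε * f.B v v) • f.B.flip u)) u ∘ₗ
        LinearMap.transvection (f.B.flip u) v := by
    ext w
    simp only [LinearEquiv.coe_coe, eichler_apply, LinearMap.comp_apply,
      LinearMap.transvection.apply, LinearMap.neg_apply, LinearMap.add_apply, LinearMap.smul_apply,
      LinearMap.flip_apply, smul_eq_mul, B_add_left, B_smul_left, hv]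
    module
  rw [mem_SIsom, this, LinearMap.det_comp, LinearMap.transvection.det, LinearMap.transvection.det]
  simp [hv, f.B_self_of_Q hu, f.B_eq_zero_symm hv]

theorem bigSet_SIsom_of_two [FiniteDimensional F V] {P : Param F} {f : Form P V} (hf : f.Nondeg)
    (hn : 2 ≤ Fintype.card ι) {φ : (ι → F) →ₗ[F] V} (hφ : Function.Injective φ)
    (hQ : ∀ x, f.Q (φ x) = 0) (hB : ∀ x y, f.B (φ x) (φ y) = 0) :
    BigSet (Induced f.SIsom.subtype φ) := by
  refine bigSet_of_tv hn Induced.mul fun w ψ h => ?_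
  obtain ⟨θ, hθ⟩ := φ.exists_leftInverse_of_injective (LinearMap.ker_eq_bot.mpr hφ)
  obtain ⟨y, hy⟩ := hf.exists_repr (dotProductBilin F F ψ ∘ₗ θ)
  have e : ∀ x, f.B (φ x) y = ψ ⬝ᵥ x := fun x =>
    (hy _).trans (congrArg (ψ ⬝ᵥ ·) (LinearMap.congr_fun hθ x))
  obtain ⟨l, hl⟩ := f.exists_isLam (-P.ε • y)
  refine ⟨⟨f.eichler (φ w) _ l (hQ w) (f.B_eq_zero_symm (by rw [B_smul_right, e, h, mul_zero])) hl,
    eichler_mem_SIsom _ _ _ _ _ _ _⟩, fun x => ?_⟩
  simp only [Subgroup.coe_subtype, eichler_apply, hB, B_smul_right, e, map_neg, P.σε, add_mulVec,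
    one_mulVec, vecMulVec_mulVec, op_smul_eq_smul, map_add, map_smul]
  match_scalars
  · rfl
  · ring
  · linear_combination (ψ ⬝ᵥ x) * P.εε

variable [Fintype F] {q : ℕ} {hF : Fintype.card F = q ^ 2}

theorem mul_frobq (hF : Fintype.card F = q ^ 2) (s : F) : s * frobq hF s = s ^ (q + 1) := by
  rw [frobq_apply, pow_succ']

theorem card_fixed_ge (hF : Fintype.card F = q ^ 2) : q ≤ Nat.card {t : F // frobq hF t = t} := by
  have h := card_le_mul_of_rel (S := F) (fun (t : {t : F // frobq hF t = t}) a => a ^ (q + 1) = t.1)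
    (q + 1) (fun a => ⟨⟨a * frobq hF a, by rw [map_mul, frobq_frobq, mul_comm]⟩,
      (mul_frobq hF a).symm⟩) fun t => card_pow_eq_le (by omega) _
  rw [Nat.card_eq_fintype_card, hF] at h
  have := two_le_q hF
  by_contra hc
  have : Nat.card {t : F // frobq hF t = t} + 1 ≤ q := by omega
  nlinarith

theorem lam0_unit {l : F} : Lam0 (uP hF) l ↔ l + frobq hF l = 0 := by simp [Lam0]

theorem exists_lam0 (hF : Fintype.card F = q ^ 2) : ∃ l, l ≠ 0 ∧ Lam0 (uP hF) l := by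
  obtain ⟨a, ha⟩ := frobq_ne hF
  exact ⟨frobq hF a - a, sub_ne_zero.mpr ha, lam0_unit.mpr (by rw [map_sub, frobq_frobq]; ring)⟩

theorem exists_sub_eq {l : F} (hl : Lam0 (uP hF) l) : ∃ c, frobq hF c - c = l := by
  obtain ⟨a, ha⟩ := frobq_ne hF
  have h0 := sub_ne_zero.mpr ha
  have h1 : a - frobq hF a ≠ 0 := sub_ne_zero.mpr ha.symm
  refine ⟨l / (frobq hF a - a) * a, ?_⟩
  rw [map_mul, map_div₀, map_sub, frobq_frobq, eq_neg_of_add_eq_zero_right (lam0_unit.mp hl)]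
  field_simp
  ring

theorem unit_ein [FiniteDimensional F V] {f : Form (uP hF) V} (hf : f.Nondeg)
    (h : 4 ≤ finrank F V ∨ 3 ≤ q) {N : Subgroup f.Isom} [N.Normal] (hN : HasTr f N) (u v : V) :
    Ein N u v := by
  intro l hu hv hl
  by_cases h0 : u = 0
  · subst h0
    convert N.one_mem
    exact Isom.ext fun w => by simp [eichler_apply]
  obtain ⟨e, he⟩ := hf.exists_hypPair hu h0
  rcases h with h | h
  · have h1 := he.restrict_orth_nondeg hf
    obtain ⟨a, ha0, ha⟩ := h1.unit_exists_singular (by have := he.finrank_orth hf; omega)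
    obtain ⟨b, hb⟩ := h1.exists_hypPair ha ha0
    exact hN.ein_of_hyp (exists_lam0 hF) hu hv (a := a) (b := b) ⟨hb.Qu, hb.Qe, hb.Bue⟩
      (mem_orth_pair.1 a.2).1 (mem_orth_pair.1 b.2).1 _ _ _ _
  · obtain ⟨c, hc, hc0, hc1⟩ : ∃ c : F, frobq hF c = c ∧ c ≠ 0 ∧ c ≠ 1 := by
      by_contra hc
      push Not at hc
      have h1 := Nat.card_le_card_of_injective (β := ({0, 1} : Set F))
        (fun t : {t : F // frobq hF t = t} => ⟨t.1, by
          by_cases h : t.1 = 0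
          · exact Or.inl h
          · exact Or.inr (hc _ t.2 h)⟩) fun a b h => Subtype.ext (congrArg (fun x : ({0, 1} : Set F) => x.1) h)
      rw [Nat.card_coe_set_eq, Set.ncard_pair zero_ne_one] at h1
      have := card_fixed_ge hF
      omega
    obtain ⟨m, hm0, hm⟩ := exists_lam0 hF
    exact hN.ein_of_hscale (exists_lam0 hF) he hv hc0 hc1 (hN.hscale_mem he hm hm0 hc0
      (lam0_unit.mpr (by rw [map_mul, hc, ← mul_add, lam0_unit.mp hm, mul_zero]))) _ _ _ _

theorem tr_mem_SIsom [FiniteDimensional F V] {P : Param F} (f : Form P V) (d : V) (l : F)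
    (hd hl) : tr f d l hd hl ∈ f.SIsom := eichler_mem_SIsom _ _ _ _ _ _ _

theorem su_exists_tr [FiniteDimensional F V] {f : Form (uP hF) V} (hf : f.Nondeg)
    (h2 : 2 ≤ finrank F V) (h : 4 ≤ finrank F V ∨ 3 ≤ q) {M : Type*} [Monoid M] (ρ : f.SIsom →* M)
    (hρ : ∃ a b, ρ a * ρ b ≠ ρ b * ρ a) :
    ∃ d l hd hl, ρ ⟨tr f d l hd hl, tr_mem_SIsom _ _ _ _ _⟩ ≠ 1 := by
  by_contra hc
  push Not at hc
  obtain ⟨a, b, hab⟩ := hρ
  let N := Subgroup.normalClosure {g | ∃ d l hd hl, g = tr f d l hd hl}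
  have hN : HasTr f N := fun d l hd hl => Subgroup.subset_normalClosure ⟨d, l, hd, hl, rfl⟩
  have hle : N ≤ ρ.ker.map f.SIsom.subtype := by
    refine (Subgroup.closure_le _).mpr fun x hx => ?_
    obtain ⟨_, ⟨d, l, hd, hl, rfl⟩, hx⟩ := Group.mem_conjugatesOfSet_iff.mp hx
    obtain ⟨g, rfl⟩ := isConj_iff.mp hx
    rw [tr_conj]
    exact ⟨_, hc _ _ (by rw [Isom.map_Q, hd]) hl, rfl⟩
  obtain ⟨u, hu0, hu⟩ := hf.unit_exists_singular h2
  obtain ⟨e, he⟩ := hf.exists_hypPair hu hu0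
  obtain ⟨c, hc1, hc2⟩ := hle (comm_mem_of_ein hf hN (unit_ein hf h hN) (exists_lam0 hF) he a b)
  obtain rfl : c = a * b * a⁻¹ * b⁻¹ := Subtype.ext hc2
  apply hab
  rw [← map_mul, ← map_mul, show a * b = a * b * a⁻¹ * b⁻¹ * (b * a) by group, map_mul,
    show ρ _ = 1 from hc1, one_mul]

/-- the hyperbolic unitary space -/
def hypU (m : ℕ) (hF : Fintype.card F = q ^ 2) : Form (uP hF) (Fin m ⊕ Fin m → F) :=
  Form.ofHerm (frobq hF) (frobq_frobq hF) (frobq_ne hF)
    (LinearMap.mk₂'ₛₗ (RingHom.id F) (frobq hF) (fun u v => ∑ i, u i * frobq hF (v i.swap))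
      (fun _ _ _ => by simp [add_mul, Finset.sum_add_distrib])
      (fun _ _ _ => by simp [Finset.mul_sum, mul_assoc, mul_add])
      (fun _ _ _ => by simp [mul_add, Finset.sum_add_distrib])
      (fun _ _ _ => by simp [Finset.mul_sum, mul_left_comm, mul_add]))
    (fun x y => by simp [frobq_frobq, mul_comm, add_comm])

theorem hypU_B (m : ℕ) (u v : Fin m ⊕ Fin m → F) :
    (hypU m hF).B u v = ∑ i, u i * frobq hF (v i.swap) := rfl

theorem hypU_nondeg (m : ℕ) : (hypU m hF).Nondeg := by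
  intro x hx
  ext (i | i)
  · simpa [hypU_B, Pi.single_apply, apply_ite (frobq hF)] using hx (Pi.single (.inr i) 1)
  · simpa [hypU_B, Pi.single_apply, apply_ite (frobq hF)] using hx (Pi.single (.inl i) 1)

theorem unit_exists_emb [FiniteDimensional F V] {f : Form (uP hF) V} (hf : f.Nondeg) {m : ℕ}
    (hm : 2 * m ≤ finrank F V) {x₀ : Fin m → F} (hx : x₀ ≠ 0) {d : V} (hd : d ≠ 0)
    (hq : f.Q d = 0) : ∃ φ : (Fin m → F) →ₗ[F] V, Function.Injective φ ∧ (∀ x, f.Q (φ x) = 0) ∧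
      (∀ x y, f.B (φ x) (φ y) = 0) ∧ φ x₀ = d ∧
      (2 * m < finrank F V → ∃ a, f.B a a ≠ 0 ∧ ∀ x, f.B a (φ x) = 0) := by
  obtain ⟨θ, hθ⟩ := hf.unit_embed (hypU_nondeg (hF := hF) m) (by rwa [finrank_plus])
  have hφ := (hθ.injective (hypU_nondeg m)).comp (lag_injective m)
  have hB : ∀ x y, f.B (θ (lag m F x)) (θ (lag m F y)) = 0 := fun x y => by
    rw [hθ.map_B]; simp [hypU_B, lag]
  have hQ : ∀ x, f.Q (θ (lag m F x)) = 0 := fun x => by rw [unit_Q, hB]
  obtain ⟨g, hg⟩ := hf.witt_one (x := θ (lag m F x₀)) (y := d) (by simpa using hφ.ne hx) hd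
    (by rw [hB, f.B_self_of_Q hq]) (by rw [hQ, hq])
  refine ⟨(g.1 : V →ₗ[F] V) ∘ₗ θ ∘ₗ lag m F, g.1.injective.comp hφ,
    fun x => (Isom.map_Q g _).trans (hQ x), fun x y => (Isom.map_B g _ _).trans (hB x y), hg,
    fun h => ?_⟩
  have h1 := hθ.comap_nondeg (hypU_nondeg m)
  have h2 := hf.finrank_orth_range h1
  have : Nontrivial (f.orth (LinearMap.range θ)) :=
    (finrank_pos_iff (R := F)).1 (by rw [finrank_plus] at h2; omega)
  obtain ⟨a, ha⟩ := (hf.restrict_orth_range h1).unit_exists_aniso (frobq_ne hF)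
  exact ⟨g.1 a, by rw [Isom.map_B]; exact ha,
    fun x => (Isom.map_B g _ _).trans (a.2 _ ⟨_, rfl⟩)⟩

theorem bigSet_SIsom_of_aniso [FiniteDimensional F V] {f : Form (uP hF) V} (hf : f.Nondeg)
    {φ : (ι → F) →ₗ[F] V} (hφ : Function.Injective φ)
    (hQ : ∀ x, f.Q (φ x) = 0) (hB : ∀ x y, f.B (φ x) (φ y) = 0) {a : V} (ha : f.B a a ≠ 0)
    (ha' : ∀ x, f.B a (φ x) = 0) : BigSet (Induced f.SIsom.subtype φ) := by
  have key : ∀ g, Induced (MonoidHom.id f.Isom) φ g → Induced f.SIsom.subtype φ g := by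
    rintro g ⟨b, hb⟩
    by_cases h : f.detHom b = 1
    · exact ⟨⟨b, h⟩, hb⟩
    have h1 := hf.det_mul_σ_det b
    set δ : F := (f.detHom b).val with hδ
    have h2 : δ - 1 ≠ 0 := fun e => h (Units.val_eq_one.mp (sub_eq_zero.mp e))
    have h3 : δ ≠ 0 := left_ne_zero_of_mul_eq_one h1
    have h4 : frobq hF δ = δ⁻¹ := eq_inv_of_mul_eq_one_right h1
    have h5 : frobq hF (f.B a a * δ / (δ - 1)) = -(f.B a a / (δ - 1)) := by
      have : 1 - δ ≠ 0 := fun e => h2 (by linear_combination -e)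
      rw [map_div₀, map_mul, map_sub, h4, ← unit_symm, map_one]; field_simp; ring
    have hl : f.IsLam a (f.B a a * δ / (δ - 1)) := by
      rw [unit_isLam_iff, h5]; field_simp; ring
    have hl0 : f.B a a * δ / (δ - 1) ≠ 0 := div_ne_zero (mul_ne_zero ha h3) h2
    refine ⟨⟨b * f.qrefl a _ hl hl0, ?_⟩, fun x => ?_⟩
    · rw [SIsom, MonoidHom.mem_ker, ← Units.val_eq_one, map_mul, Units.val_mul, ← hδ, coe_detHom,
        det_qrefl, Param.unit_σ, h5, Param.unit_ε]
      field_simp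
    · rw [Subgroup.coe_subtype, Isom.mul_apply,
        qrefl_apply_of_orth _ _ _ _ _ (f.B_eq_zero_symm (ha' x))]
      exact hb x
  have h := bigSet_induced hf (j := MonoidHom.id f.Isom) Function.surjective_id hφ hQ hB
  exact ⟨Induced.mul, fun w ψ e => key _ (h.tv w ψ e), fun x y hx hy => by
    obtain ⟨g, hg, e⟩ := h.trans x y hx hy
    exact ⟨g, key _ hg, e⟩⟩

theorem TT_smul_self {f : Form (uP hF) V} {d : V} (c : F) {l : F} (h : frobq hF c - c = l)
    (h1 hd h2 hl) : TT f (c • d) d h1 hd h2 = tr f d l hd hl := by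
  apply Isom.ext; intro w
  simp only [TT_apply, tr_apply, unit_B_smul_right, Param.unit_ε, ← h]
  module

section bounds

variable {K W : Type*} [Field K] [AddCommGroup W] [Module K W] [IsAlgClosed K]
  [FiniteDimensional K W] [FiniteDimensional F V] {f : Form (uP hF) V}

theorem su_lower_even (hf : f.Nondeg) {m : ℕ} (hm : 2 ≤ m) (hV : 2 * m ≤ finrank F V)
    (hK : ringChar K ≠ ringChar F) (ρ : f.SIsom →* End K W) (hρ : ∃ a b, ρ a * ρ b ≠ ρ b * ρ a) :
    q ^ (2 * m) - 1 ≤ (q + 1) * finrank K W := by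
  classical
  obtain ⟨d, l, hd, hl, h⟩ := su_exists_tr hf (by omega) (Or.inl (by omega)) ρ hρ
  have hd0 : d ≠ 0 := by
    rintro rfl
    exact h (by simp only [tr_zero]; exact map_one ρ)
  have : Nonempty (Fin m) := ⟨⟨0, by omega⟩⟩
  obtain ⟨x₀, hx₀⟩ := exists_ne (0 : Fin m → F)
  obtain ⟨φ, hφ, hQ, hB, rfl, -⟩ := unit_exists_emb hf hV hx₀ hd0 hd
  have S : SiegelData f f.SIsom.subtype φ
      (fun p => ⟨TT f (φ p.1) (φ p.2) (hQ _) (hQ _) (hB _ _), eichler_mem_SIsom _ _ _ _ _ _ _⟩) :=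
    ⟨Subtype.val_injective, hφ, hQ, hB, fun x y => rfl⟩
  obtain ⟨c, hc⟩ := exists_sub_eq hl
  have := (S.card_ge (ρ := ρ) hK (bigSet_SIsom_of_two hf (by simpa using hm) hφ hQ hB)
    (Nat.succ_pos q) (mul_frobq hF) (c := c) (x₀ := x₀) (by
      convert h using 2
      apply Subtype.ext
      simp only [map_smul φ]
      exact TT_smul_self c hc _ _ _ _)).trans (Nat.mul_le_mul_left _ (card_fw_le _ _))
  rwa [Nat.card_eq_fintype_card, hF, Fintype.card_fin, ← pow_mul] at this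

theorem exists_heis (hf : f.Nondeg) {G : Type*} [Group G] {j : G →* f.Isom}
    {φ : (ι → F) →ₗ[F] V} {T : (ι → F) × (ι → F) → G} (S : SiegelData f j φ T)
    (hj : ∀ u v l hu hv h, ∃ g, j g = f.eichler u v l hu hv h) {a : V} (ha : f.B a a ≠ 0)
    (ha' : ∀ x, f.B a (φ x) = 0) {ρ : G →* End K W} {l : (ι → F) × (ι → F) → K}
    (hl : IsFW (fun p => ρ (T p)) l) {c : F} {x : ι → F} (hx : l (c • x, x) ≠ 1) :
    ∃ v : {t : F // frobq hF t = t} → W, LinearIndependent K v ∧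
      ∀ k p, ρ (T p) (v k) = l p • v k := by
  choose lam hlam using fun t : F => f.exists_isLam (t • a)
  choose E hE using fun t : F => hj (φ x) (t • a) (lam t) (S.Q x)
    (by rw [B_smul_left, ha', mul_zero]) (hlam t)
  have ha2 : ∀ x, f.B (φ x) a = 0 := fun x => f.B_eq_zero_symm (ha' x)
  have h1 : ∀ t p, T p * E t = E t * T p := fun t p => S.inj (by
    rw [map_mul, map_mul, hE, S.T_eq]
    apply Isom.ext; intro w
    simp only [Isom.mul_apply, TT_apply, eichler_apply, B_sub_left, B_add_left, B_smul_left,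
      B_smul_right, S.B, ha', ha2]
    module)
  have h2 : ∀ s t, E s * E t = E t * E s * T ((s * frobq hF t * f.B a a) • x, x) :=
    fun s t => S.inj (by
      rw [map_mul, map_mul, map_mul, hE, hE, S.T_eq]
      apply Isom.ext; intro w
      simp only [Isom.mul_apply, TT_apply, eichler_apply, B_sub_left, B_add_left, B_smul_left,
        B_smul_right, S.B, ha', ha2, map_smul φ, Param.unit_σ, Param.unit_ε, map_mul, frobq_frobq,
        ← unit_symm]
      module)
  have h3 : ∀ s, frobq hF s = s → T (s • x, x) = 1 := fun s hs => S.inj (by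
    rw [S.T_eq, map_one]
    apply Isom.ext; intro w
    simp [TT_apply, B_smul_right, hs, smul_smul, mul_comm])
  have hinv : ∀ t, ∀ w ∈ wtSp (fun p => ρ (T p)) l, ρ (E t) w ∈ wtSp (fun p => ρ (T p)) l :=
    fun t w hw p => by
      rw [← End.mul_apply, ← map_mul, h1, map_mul, End.mul_apply, hw p, map_smul]
  obtain ⟨v, hv, hv0, e⟩ := exists_common_eigenvector
    (fun s : {t : F // frobq hF t = t} => ρ (E s.1)) (fun s t => by
      rw [← map_mul, h2, h3 _ (by rw [map_mul, map_mul, s.2, t.2, t.2, ← unit_symm]), mul_one,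
        map_mul]) _ hl.wtSp_ne_bot fun s => hinv s.1
  choose μ hμ using e
  refine ⟨fun t => ρ (E (frobq hF (t.1 * c / f.B a a))) v, linearIndependent_fw
    (fun s : {t : F // frobq hF t = t} => ρ (E s.1)) (fun t s => μ s * l ((s.1 * t.1 * c) • x, x))
    (fun t t' h => ?_) _ (fun t => rep_apply_ne_zero ρ _ hv0) fun t s => ?_,
    fun t p => hinv _ v hv p⟩
  · by_contra hne
    have h0 : t.1 - t'.1 ≠ 0 := fun e => hne (Subtype.ext (sub_eq_zero.mp e))
    have h4 := congrFun h ⟨(t.1 - t'.1)⁻¹, by rw [map_inv₀, map_sub, t.2, t'.2]⟩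
    have h5 : ∀ s, μ s ≠ 0 := fun s e => rep_apply_ne_zero ρ _ hv0 (by rw [hμ, e, zero_smul])
    have h6 : l (((t.1 - t'.1)⁻¹ * t.1 * c) • x, x) =
        l (c • x, x) * l (((t.1 - t'.1)⁻¹ * t'.1 * c) • x, x) :=
      SiegelData.fw_of_mul hl (by
        rw [← S.add_left, ← add_smul]; congr 3; field_simp; ring)
    have h7 : ∀ p, l p ≠ 0 := fun p e => rep_apply_ne_zero ρ _ hv0 (by rw [hv p, e, zero_smul])
    rw [mul_left_cancel₀ (h5 _) h4] at h6
    exact hx (mul_eq_right₀ (h7 _) |>.mp h6.symm)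
  · rw [← End.mul_apply, ← map_mul, h2, map_mul, map_mul, End.mul_apply, End.mul_apply, hv,
      map_smul, map_smul, hμ, map_smul, smul_smul, frobq_frobq, mul_comm (μ s), mul_assoc,
      div_mul_cancel₀ _ ha, mul_assoc]

theorem su_lower_odd (hf : f.Nondeg) {m : ℕ} (hm : 1 ≤ m) (hV : 2 * m < finrank F V)
    (h3 : 4 ≤ finrank F V ∨ 3 ≤ q)
    (hK : ringChar K ≠ ringChar F) (ρ : f.SIsom →* End K W) (hρ : ∃ a b, ρ a * ρ b ≠ ρ b * ρ a) :
    (q ^ (2 * m) - 1) * q ≤ (q + 1) * finrank K W := by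
  classical
  obtain ⟨d, l, hd, hl, h⟩ := su_exists_tr hf (by omega) h3 ρ hρ
  have hd0 : d ≠ 0 := by
    rintro rfl
    exact h (by simp only [tr_zero]; exact map_one ρ)
  have : Nonempty (Fin m) := ⟨⟨0, by omega⟩⟩
  obtain ⟨x₀, hx₀⟩ := exists_ne (0 : Fin m → F)
  obtain ⟨φ, hφ, hQ, hB, rfl, h'⟩ := unit_exists_emb hf hV.le hx₀ hd0 hd
  obtain ⟨a, ha, ha'⟩ := h' hV
  let T : (Fin m → F) × (Fin m → F) → f.SIsom :=
    fun p => ⟨TT f (φ p.1) (φ p.2) (hQ _) (hQ _) (hB _ _), eichler_mem_SIsom _ _ _ _ _ _ _⟩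
  have S : SiegelData f f.SIsom.subtype φ T := ⟨Subtype.val_injective, hφ, hQ, hB, fun x y => rfl⟩
  obtain ⟨c, hc⟩ := exists_sub_eq hl
  have h1 := S.card_ge (ρ := ρ) hK (bigSet_SIsom_of_aniso hf hφ hQ hB ha ha')
    (Nat.succ_pos q) (mul_frobq hF) (c := c) (x₀ := x₀) (by
      convert h using 2
      apply Subtype.ext
      simp only [T, map_smul φ]
      exact TT_smul_self c hc _ _ _ _)
  rw [Nat.card_eq_fintype_card, hF, Fintype.card_fin, ← pow_mul] at h1
  have := finite_fw' (fun p => ρ (T p)) (fun l => ∃ (c : F) (x : Fin m → F), l (c • x, x) ≠ 1)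
  choose v hv e using fun l : {l // IsFW (fun p => ρ (T p)) l ∧
      ∃ (c : F) (x : Fin m → F), l (c • x, x) ≠ 1} =>
    exists_heis hf S (fun u v l hu hv h => ⟨⟨_, eichler_mem_SIsom f u v l hu hv h⟩, rfl⟩) ha ha'
      l.2.1 l.2.2.choose_spec.choose_spec
  have h2 := card_mul_le_finrank (fun p => ρ (T p)) _ Subtype.val_injective v hv e
  calc _ ≤ _ := Nat.mul_le_mul h1 (card_fixed_ge hF)
    _ ≤ _ := by rw [mul_assoc]; exact Nat.mul_le_mul_left _ h2

end bounds

end Cfsg.Agent.Deg
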