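import Mathlib

/-!
# Weights of commutative subgroups in representations over an arbitrary field
-/

set_option autoImplicit false

namespace Cfsg.Agent.Deg

open Module

section Weights

variable {K V G Γ : Type*} [Field K] [AddCommGroup V] [Module K V] [Group G] [Group Γ]

/-- `l` is a weight of `Γ` acting through `j` and `ρ`. -/
def IsWt (ρ : G →* End K V) (j : Γ →* G) (l : Γ →* K) : Prop :=
  ∃ v : V, v ≠ 0 ∧ ∀ a, ρ (j a) v = l a • v

theorem rep_apply_ne_zero (ρ : G →* End K V) (g : G) {v : V} (hv : v ≠ 0) : ρ g v ≠ 0 := by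
  intro h
  apply hv
  have : ρ g⁻¹ (ρ g v) = v := by rw [← End.mul_apply, ← map_mul]; simp
  rw [← this, h, map_zero]

theorem IsWt.conj {ρ : G →* End K V} {j : Γ →* G} {l : Γ →* K} (h : IsWt ρ j l) (g : G)
    (τ : Γ →* Γ) (hτ : ∀ a, j a * g = g * j (τ a)) : IsWt ρ j (l.comp τ) := by
  obtain ⟨v, hv, e⟩ := h
  refine ⟨ρ g v, rep_apply_ne_zero ρ g hv, fun a => ?_⟩
  rw [← End.mul_apply, ← map_mul, hτ, map_mul, End.mul_apply, e, map_smul]; rfl

theorem linearIndependent_of_weights {ι : Type*} (σ : Γ → End K V) (l : ι → Γ →* K)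
    (hl : Function.Injective l) (v : ι → V) (hv : ∀ i, v i ≠ 0)
    (e : ∀ i a, σ a (v i) = l i a • v i) : LinearIndependent K v := by
  rw [linearIndependent_iff']
  intro s c hc i hi
  obtain ⟨f, hf⟩ : ∃ f : Dual K V, f (v i) ≠ 0 := by
    by_contra h
    push Not at h
    exact hv i ((forall_dual_apply_eq_zero_iff K (v i)).mp h)
  have h1 := (linearIndependent_monoidHom Γ K).comp l hl
  rw [linearIndependent_iff'] at h1
  have h2 := h1 s (fun k => c k * f (v k)) (by
    ext a
    have := congrArg (fun x => f (σ a x)) hc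
    simp only [map_sum, map_smul, e, map_zero, smul_eq_mul] at this
    simp only [Finset.sum_apply, Function.comp_apply, Pi.smul_apply, smul_eq_mul, Pi.zero_apply]
    rw [← this]
    exact Finset.sum_congr rfl fun k _ => by ring) i hi
  exact (mul_eq_zero.mp h2).resolve_right hf

theorem card_wt_le [FiniteDimensional K V] (ρ : G →* End K V) (j : Γ →* G) :
    Nat.card {l : Γ →* K // IsWt ρ j l} ≤ finrank K V := by
  choose v hv e using fun l : {l : Γ →* K // IsWt ρ j l} => l.2
  have h := linearIndependent_of_weights (fun a => ρ (j a)) Subtype.val Subtype.val_injective v hv e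
  have := h.finite
  have := Fintype.ofFinite {l : Γ →* K // IsWt ρ j l}
  rw [Nat.card_eq_fintype_card]
  exact h.fintype_card_le_finrank

theorem finite_wt [FiniteDimensional K V] (ρ : G →* End K V) (j : Γ →* G) :
    Finite {l : Γ →* K // IsWt ρ j l} := by
  choose v hv e using fun l : {l : Γ →* K // IsWt ρ j l} => l.2
  exact (linearIndependent_of_weights (fun a => ρ (j a)) Subtype.val Subtype.val_injective v hv
    e).finite

theorem exists_common_eigenvector [IsAlgClosed K] [FiniteDimensional K V] {A : Type*}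
    (σ : A → End K V) (hc : ∀ a b, σ a * σ b = σ b * σ a) (W : Submodule K V) (hW : W ≠ ⊥)
    (hinv : ∀ a, ∀ w ∈ W, σ a w ∈ W) : ∃ v ∈ W, v ≠ 0 ∧ ∀ a, ∃ c : K, σ a v = c • v := by
  obtain ⟨W₀, ⟨h1, h2, h3⟩, hmin⟩ := (wellFounded_lt (α := Submodule K V)).has_min
    {S | S ≤ W ∧ S ≠ ⊥ ∧ ∀ a, ∀ w ∈ S, σ a w ∈ S} ⟨W, le_rfl, hW, hinv⟩
  obtain ⟨v, hv, hv0⟩ := (Submodule.ne_bot_iff W₀).mp h2
  refine ⟨v, h1 hv, hv0, fun a => ?_⟩
  have : Nontrivial W₀ := Submodule.nontrivial_iff_ne_bot.mpr h2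
  obtain ⟨c, hc'⟩ := End.exists_eigenvalue ((σ a).restrict (h3 a))
  obtain ⟨u, hu⟩ := hc'.exists_hasEigenvector
  have hu1 : σ a u = c • (u : V) := congrArg Subtype.val hu.apply_eq_smul
  have hle : ¬ W₀ ⊓ (σ a).eigenspace c < W₀ := hmin _ ⟨inf_le_left.trans h1,
    (Submodule.ne_bot_iff _).mpr ⟨u, ⟨u.2, End.mem_eigenspace_iff.mpr hu1⟩,
      fun h => hu.2 (Subtype.ext h)⟩, fun b w hw => ⟨h3 b w hw.1, by
        have := End.mem_eigenspace_iff.mp hw.2
        rw [SetLike.mem_coe, End.mem_eigenspace_iff, ← End.mul_apply, hc, End.mul_apply, this,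
          map_smul]⟩⟩
  have he : W₀ ⊓ (σ a).eigenspace c = W₀ := (inf_le_left.lt_or_eq).resolve_left hle
  exact ⟨c, End.mem_eigenspace_iff.mp (he.ge hv).2⟩

theorem exists_wt_ne_one [IsAlgClosed K] [FiniteDimensional K V] (ρ : G →* End K V) (j : Γ →* G)
    (hc : ∀ a b : Γ, a * b = b * a) {a : Γ} {N : ℕ} (hN : (N : K) ≠ 0) (ha : a ^ N = 1)
    (h : ρ (j a) ≠ 1) : ∃ l : Γ →* K, IsWt ρ j l ∧ l a ≠ 1 := by
  have hc' : ∀ a b, ρ (j a) * ρ (j b) = ρ (j b) * ρ (j a) := fun a b => by
    rw [← map_mul, ← map_mul, hc, map_mul, map_mul]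
  obtain ⟨v, ⟨u, hu⟩, hv0, e⟩ := exists_common_eigenvector (fun a => ρ (j a)) hc'
    (LinearMap.range (ρ (j a) - 1)) (by rwa [Ne, LinearMap.range_eq_bot, sub_eq_zero]) (by
      rintro b _ ⟨w, rfl⟩
      refine ⟨ρ (j b) w, ?_⟩
      rw [← End.mul_apply, ← End.mul_apply, sub_mul, mul_sub, hc', one_mul, mul_one])
  choose c hc2 using e
  let l : Γ →* K :=
    { toFun := c
      map_one' := smul_left_injective K hv0 (by simp [← hc2])
      map_mul' := fun x y => smul_left_injective K hv0 (by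
        simp only [← hc2, map_mul, End.mul_apply]
        rw [hc2 y, map_smul, hc2 x, smul_smul, mul_comm]) }
  refine ⟨l, ⟨v, hv0, hc2⟩, fun h1 => hv0 ?_⟩
  have h2 : ρ (j a) v = v := by rw [hc2, show c a = 1 from h1, one_smul]
  have h3 : ∀ i : ℕ, (ρ (j a) ^ i) v = v := fun i => by
    induction i with
    | zero => rfl
    | succ i ih => rw [pow_succ, End.mul_apply, h2, ih]
  have h4 : (∑ i ∈ Finset.range N, ρ (j a) ^ i) v = 0 := by
    rw [← hu, ← End.mul_apply, geom_sum_mul, ← map_pow, ← map_pow, ha]; simp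
  simp only [LinearMap.sum_apply, h3, Finset.sum_const, Finset.card_range] at h4
  rw [← Nat.cast_smul_eq_nsmul K] at h4
  exact (smul_eq_zero.mp h4).resolve_left hN

theorem card_monoidHom_le [Finite Γ] : Nat.card (Γ →* K) ≤ Nat.card Γ := by
  have h := linearIndependent_monoidHom Γ K
  have := h.finite
  have := Fintype.ofFinite (Γ →* K)
  have := Fintype.ofFinite Γ
  simpa using h.fintype_card_le_finrank

theorem finite_monoidHom [Finite Γ] : Finite (Γ →* K) := (linearIndependent_monoidHom Γ K).finite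

end Weights

section Dual

open Multiplicative

variable {F K U : Type*} [Field F] [Field K] [AddCommGroup U] [Module F U]

/-- The character of a vector space given by a functional. -/
def dualChar (ψ : Multiplicative F →* K) (f : Dual F U) : Multiplicative U →* K :=
  ψ.comp f.toAddMonoidHom.toMultiplicative

@[simp] theorem dualChar_apply (ψ : Multiplicative F →* K) (f : Dual F U) (x : Multiplicative U) :
    dualChar ψ f x = ψ (ofAdd (f x.toAdd)) := rfl

theorem eq_of_forall_psi {ψ : Multiplicative F →* K} (hψ : ψ ≠ 1) {a b : F}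
    (h : ∀ t, ψ (ofAdd (t * a)) = ψ (ofAdd (t * b))) : a = b := by
  by_contra hne
  apply hψ
  refine MonoidHom.ext fun s => ?_
  have h1 := h ((a - b)⁻¹ * s.toAdd)
  have h2 : ψ (ofAdd ((a - b)⁻¹ * s.toAdd * b)) ≠ 0 := (Group.isUnit _).map ψ |>.ne_zero
  have h3 : (a - b)⁻¹ * s.toAdd * a = s.toAdd + (a - b)⁻¹ * s.toAdd * b := by
    have := sub_ne_zero.mpr hne
    field_simp; ring
  rw [h3, ofAdd_add, map_mul] at h1
  simpa using mul_right_cancel₀ h2 (h1.trans (one_mul _).symm)

theorem dualChar_injective {ψ : Multiplicative F →* K} (hψ : ψ ≠ 1) :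
    Function.Injective (dualChar ψ : Dual F U → Multiplicative U →* K) := by
  intro f g h
  ext x
  refine eq_of_forall_psi hψ fun t => ?_
  simpa using DFunLike.congr_fun h (ofAdd (t • x))

theorem card_dual [Finite F] [Finite U] : Nat.card (Dual F U) = Nat.card U := by
  have : Module.Finite F U := Module.Finite.of_finite
  rw [natCard_eq_pow_finrank (K := F), natCard_eq_pow_finrank (K := F) (V := U),
    Subspace.dual_finrank_eq]

theorem dualChar_surjective [Finite F] [Finite U] {ψ : Multiplicative F →* K} (hψ : ψ ≠ 1) :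
    Function.Surjective (dualChar ψ : Dual F U → Multiplicative U →* K) := by
  have := finite_monoidHom (Γ := Multiplicative U) (K := K)
  refine ((Nat.bijective_iff_injective_and_card _).mpr ⟨dualChar_injective hψ, le_antisymm
    (Nat.card_le_card_of_injective _ (dualChar_injective hψ)) ?_⟩).2
  rw [card_dual]
  exact card_monoidHom_le

theorem exists_psi {l : Multiplicative U →* K} (hl : l ≠ 1) (F : Type*) [Field F] [Module F U] :
    ∃ ψ : Multiplicative F →* K, ψ ≠ 1 := by
  obtain ⟨x, hx⟩ : ∃ x, l x ≠ 1 := by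
    by_contra h
    push Not at h
    exact hl (MonoidHom.ext h)
  refine ⟨l.comp (LinearMap.toSpanSingleton F U x.toAdd).toAddMonoidHom.toMultiplicative,
    fun h => hx ?_⟩
  simpa using DFunLike.congr_fun h (ofAdd 1)

theorem natCast_ringChar_ne_zero [Finite F] (hK : ringChar K ≠ ringChar F) :
    ((ringChar F : ℕ) : K) ≠ 0 := by
  intro h
  have h1 := (ringChar.spec K _).mp h
  have hp : (ringChar F).Prime := CharP.char_is_prime F _
  rcases (Nat.dvd_prime hp).mp h1 with h2 | h2
  · exact CharP.ringChar_ne_one h2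
  · exact hK h2

theorem pow_ringChar (F : Type*) [Field F] [Module F U] (x : Multiplicative U) :
    x ^ ringChar F = 1 := by
  change ofAdd (ringChar F • x.toAdd) = ofAdd 0
  rw [← Nat.cast_smul_eq_nsmul F, ringChar.Nat.cast_ringChar, zero_smul]

/-- The weights of a vector group, as a set of functionals. -/
theorem exists_dual_weights [Finite F] [Finite U] [IsAlgClosed K] {V G : Type*} [AddCommGroup V]
    [Module K V] [FiniteDimensional K V] [Group G] (hK : ringChar K ≠ ringChar F)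
    (ρ : G →* End K V) (j : Multiplicative U →* G) (hj : ∃ a, ρ (j a) ≠ 1) :
    ∃ Λ : Set (Dual F U), (∃ f ∈ Λ, f ≠ 0) ∧ Nat.card Λ ≤ finrank K V ∧
      ∀ (g : G) (T : U →ₗ[F] U), (∀ a, j (ofAdd a) * g = g * j (ofAdd (T a))) →
        ∀ f ∈ Λ, f ∘ₗ T ∈ Λ := by
  obtain ⟨a, ha⟩ := hj
  obtain ⟨l, hl, hl1⟩ := exists_wt_ne_one ρ j mul_comm (natCast_ringChar_ne_zero hK)
    (pow_ringChar F a) ha
  have hl2 : l ≠ 1 := by rintro rfl; exact hl1 rfl
  obtain ⟨ψ, hψ⟩ := exists_psi hl2 F
  obtain ⟨f, rfl⟩ := dualChar_surjective hψ l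
  have := finite_wt ρ j
  refine ⟨{f | IsWt ρ j (dualChar ψ f)}, ⟨f, hl, ?_⟩, le_trans (Nat.card_le_card_of_injective
    (fun f => (⟨dualChar ψ f.1, f.2⟩ : {l // IsWt ρ j l})) fun f g h =>
      Subtype.ext (dualChar_injective hψ (congrArg Subtype.val h))) (card_wt_le ρ j),
    fun g T hT f hf => IsWt.conj hf g T.toAddMonoidHom.toMultiplicative fun a => hT a.toAdd⟩
  rintro rfl
  exact hl1 (by simp)

/-- Extension of scalars of a matrix representation to the algebraic closure. -/
noncomputable def closureRep {G : Type*} [Group G] {d : ℕ} (ρ : G →* GL (Fin d) K) :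
    G →* End (AlgebraicClosure K) (Fin d → AlgebraicClosure K) :=
  (Matrix.toLinAlgEquiv' : Matrix (Fin d) (Fin d) (AlgebraicClosure K) ≃ₐ[AlgebraicClosure K]
    _).toMonoidHom.comp (((algebraMap K (AlgebraicClosure K)).mapMatrix.toMonoidHom.comp
      (Units.coeHom _)).comp ρ)

theorem closureRep_eq_one {G : Type*} [Group G] {d : ℕ} (ρ : G →* GL (Fin d) K) {g : G}
    (h : closureRep ρ g = 1) : ρ g = 1 := by
  have h1 : (ρ g).1.map (algebraMap K (AlgebraicClosure K)) = 1 :=
    Matrix.toLinAlgEquiv'.injective (h.trans (map_one _).symm)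
  apply Units.ext
  apply Matrix.map_injective (algebraMap K (AlgebraicClosure K)).injective
  simpa using h1

theorem exists_dual_weights_GL [Finite F] [Finite U] {G : Type*} [Group G] {d : ℕ}
    (hK : ringChar K ≠ ringChar F) (ρ : G →* GL (Fin d) K) (j : Multiplicative U →* G)
    (hj : ∃ a, ρ (j a) ≠ 1) :
    ∃ Λ : Set (Dual F U), (∃ f ∈ Λ, f ≠ 0) ∧ Nat.card Λ ≤ d ∧
      ∀ (g : G) (T : U →ₗ[F] U), (∀ a, j (ofAdd a) * g = g * j (ofAdd (T a))) →
        ∀ f ∈ Λ, f ∘ₗ T ∈ Λ := by
  obtain ⟨a, ha⟩ := hj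
  have := exists_dual_weights (F := F) (K := AlgebraicClosure K)
    (by rwa [← Algebra.ringChar_eq K]) (closureRep ρ) j ⟨a, fun h => ha (closureRep_eq_one ρ h)⟩
  simpa using this

end Dual

end Cfsg.Agent.Deg
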