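import Cfsg.Agent.Lib.Deg.SLPerm
import Cfsg.Agent.Lib.Deg.SpQuad
import Cfsg.Agent.Lib.Forms.Gram

/-!
# The Weil representation of a finite symplectic group in odd characteristic
-/

set_option autoImplicit false

namespace Cfsg.Agent.Deg

open Module Cfsg.Agent.Forms Cfsg.Agent.Forms.Form Cfsg.Agent.Char ComplexConjugate

section dp

variable {K M : Type*} [Field K] [AddCommGroup M] [Module K M] [FiniteDimensional K M]

/-- the determinant on the image of an idempotent -/
noncomputable def dp (p A : End K M) : K := LinearMap.det (A * p + (1 - p))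

theorem dp_mul {p : End K M} (hp : p * p = p) (A : End K M) {B : End K M} (hB : B * p = p * B) :
    dp p (A * B) = dp p A * dp p B := by
  rw [dp, dp, dp, ← map_mul]
  congr 1
  have h1 : p * B * p = B * p := by rw [← hB, mul_assoc, hp]
  simp only [add_mul, mul_add, sub_mul, mul_sub, one_mul, mul_one, mul_assoc, hp]
  simp only [← mul_assoc, h1]
  abel

theorem dp_one (p : End K M) : dp p 1 = 1 := by simp [dp]

theorem dp_smul [CharZero K] {p : End K M} (hp : p * p = p) {r : ℕ}
    (hr : LinearMap.trace K M p = r) (c : K) : dp p (c • 1) = c ^ r := by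
  have h := LinearMap.IsIdempotentElem.isProj_range p hp
  have h1 : finrank K (LinearMap.range p) = r := by rw [h.trace] at hr; exact_mod_cast hr
  have h2 : (c • 1 : End K M) * p + (1 - p) = ((LinearMap.range p).prodEquivOfIsCompl
      (LinearMap.ker p) h.isCompl).conj (LinearMap.prodMap (c • LinearMap.id) LinearMap.id) := by
    have : (LinearMap.prodMap (c • LinearMap.id) LinearMap.id :
        End K (LinearMap.range p × LinearMap.ker p)) =
        c • LinearMap.prodMap LinearMap.id 0 + (LinearMap.id - LinearMap.prodMap LinearMap.id 0) := by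
      ext <;> simp
    rw [this, map_add, map_sub, map_smul, ← h.eq_conj_prodMap, LinearEquiv.conj_id]
    simp; rfl
  rw [dp, h2, LinearEquiv.conj_apply, LinearMap.comp_assoc, LinearMap.det_conj,
    LinearMap.det_prodMap, LinearMap.det_smul, h1]
  simp

theorem dp_ne_zero {p A : End K M} (hp : p * p = p) (hA : IsUnit A) (h : A * p = p * A) :
    dp p A ≠ 0 := by
  obtain ⟨A, rfl⟩ := hA
  have := dp_mul hp A.inv h
  rw [A.inv_val, dp_one] at this
  exact right_ne_zero_of_mul_eq_one this.symm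

end dp

variable {F : Type*} [Field F] {V : Type*} [AddCommGroup V] [Module F V]
  {M : Type*} [AddCommGroup M] [Module ℂ M]

/-- a Schrödinger model of the Heisenberg group -/
structure Heis (f : Form (Param.sp F) V) (γ : AddChar F ℂ) (S : V → End ℂ M) (r : ℕ) : Prop where
  nondeg : f.Nondeg
  ne_one : γ ≠ 1
  mul : ∀ v w, S v * S w = γ (f.B v w) • S (v + w)
  zero : S 0 = 1
  trace : ∀ v, v ≠ 0 → LinearMap.trace ℂ M (S v) = 0
  dim : finrank ℂ M = 2 * r + 1
  card : Nat.card V = (2 * r + 1) ^ 2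

namespace Heis

variable [Fintype V] [FiniteDimensional ℂ M] {f : Form (Param.sp F) V} {γ : AddChar F ℂ}
  {S : V → End ℂ M} {r : ℕ} (H : Heis f γ S r)
include H

theorem dim_ne_zero : (2 * r + 1 : ℂ) ≠ 0 := by exact_mod_cast Nat.succ_ne_zero (2 * r)

theorem trace_zero : LinearMap.trace ℂ M (S 0) = 2 * r + 1 := by
  rw [H.zero, LinearMap.trace_one, H.dim]; simp

theorem linearIndependent : LinearIndependent ℂ S := by
  rw [Fintype.linearIndependent_iff]
  intro c hc w
  have := congrArg (fun A => LinearMap.trace ℂ M (S (-w) * A)) hc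
  simp only [Finset.mul_sum, mul_smul_comm, H.mul, map_sum, map_smul, mul_zero, map_zero] at this
  rw [Finset.sum_eq_single w] at this
  · simpa [H.trace_zero, H.dim_ne_zero, sp_B_self] using this
  · intro v _ hv
    rw [H.trace _ (by rwa [neg_add_eq_sub, sub_ne_zero])]; simp
  · simp

/-- the Heisenberg operators form a basis of the endomorphism algebra -/
noncomputable def basis : Basis V ℂ (End ℂ M) :=
  basisOfLinearIndependentOfCardEqFinrank H.linearIndependent (by
    rw [finrank_linearMap, H.dim, ← Nat.card_eq_fintype_card, H.card, sq])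

theorem basis_apply (v : V) : H.basis v = S v := by simp [basis]

theorem exists_smul {A : End ℂ M} (h : ∀ v, A * S v = S v * A) : ∃ c : ℂ, A = c • 1 := by
  obtain ⟨c, hc⟩ := (Algebra.IsCentral.mem_center_iff ℂ (x := A)).mp
    (Subalgebra.mem_center_iff.mpr fun B => by
      rw [← H.basis.sum_repr B]
      simp [Finset.sum_mul, Finset.mul_sum, H.basis_apply, h])
  exact ⟨c, by rw [hc, Algebra.algebraMap_eq_smul_one]⟩

theorem exists_unit (g : f.Isom) : ∃ A : End ℂ M, IsUnit A ∧ ∀ v, A * S v = S (g.1 v) * A := by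
  let e := H.basis.equiv H.basis g.1.toEquiv
  have he : ∀ v, e (S v) = S (g.1 v) := fun v => by
    rw [← H.basis_apply, Basis.equiv_apply, H.basis_apply]; rfl
  obtain ⟨T, hT⟩ := (AlgEquiv.ofLinearEquiv e (by rw [← H.zero, he, map_zero]) fun x y => by
    rw [← H.basis.sum_repr x, ← H.basis.sum_repr y]
    simp only [Finset.sum_mul, Finset.mul_sum, map_sum, smul_mul_smul_comm, map_smul,
      H.basis_apply, H.mul, he, Isom.map_B, map_add]).eq_linearEquivConjAlgEquiv
  refine ⟨T, (Module.End.isUnit_iff _).mpr T.bijective, fun v => ?_⟩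
  have := DFunLike.congr_fun hT (S v)
  rw [AlgEquiv.ofLinearEquiv_apply, he] at this
  rw [this]
  ext x; simp

theorem sum_γ (u : V) (hu : u ≠ 0) : ∑ v, γ (f.B v u) = 0 := by
  refine AddChar.sum_eq_zero_iff_ne_zero (ψ := γ.compAddMonoidHom (f.B.flip u).toAddMonoidHom)
    |>.mpr fun h => H.ne_one ?_
  ext a
  obtain ⟨y, hy⟩ := H.nondeg.exists_eq_one hu
  have := DFunLike.congr_fun h ((-a) • y)
  simpa [f.sp_symm u y, hy] using this

omit H in
/-- the parity operator -/
noncomputable def par (S : V → End ℂ M) (r : ℕ) : End ℂ M := (2 * r + 1 : ℂ)⁻¹ • ∑ v, S v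

theorem par_mul_par : par S r * par S r = 1 := by
  have h : (∑ v, S v) * ∑ v, S v = ∑ u, (∑ v, γ (f.B v u)) • S u := by
    simp only [Finset.sum_mul, Finset.sum_smul]
    rw [Finset.sum_comm]
    refine Finset.sum_congr rfl fun v _ => ?_
    rw [Finset.mul_sum, ← (Equiv.subRight v).sum_comp]
    simp [H.mul, sp_B_self]
  rw [par, smul_mul_smul_comm, h, Finset.sum_eq_single 0]
  · have := H.dim_ne_zero
    simp only [map_zero, AddChar.map_zero_eq_one, Finset.sum_const, Finset.card_univ, H.zero,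
      ← Nat.card_eq_fintype_card, H.card, smul_smul, nsmul_eq_mul]
    convert one_smul ℂ (1 : End ℂ M)
    push_cast; field_simp
  · intro u _ hu; rw [H.sum_γ u hu, zero_smul]
  · simp

theorem trace_par : LinearMap.trace ℂ M (par S r) = 1 := by
  rw [par, map_smul, map_sum, Finset.sum_eq_single 0, H.trace_zero, smul_eq_mul,
    inv_mul_cancel₀ H.dim_ne_zero]
  · intro v _ hv; exact H.trace v hv
  · simp

theorem par_mul (v : V) : par S r * S v = S (-v) * par S r := by
  rw [par, smul_mul_assoc, mul_smul_comm, Finset.sum_mul, Finset.mul_sum,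
    ← (Equiv.subRight v).sum_comp, ← Equiv.sum_comp (Equiv.addRight v) fun w => S (-v) * S w]
  congr 1
  refine Finset.sum_congr rfl fun w _ => ?_
  simp [H.mul, sp_B_self, f.sp_symm w v]

omit H in
theorem comm_par {g : f.Isom} {A : End ℂ M} (h : ∀ v, A * S v = S (g.1 v) * A) :
    A * par S r = par S r * A := by
  rw [par, smul_mul_assoc, mul_smul_comm, Finset.sum_mul, Finset.mul_sum,
    ← g.1.toEquiv.sum_comp fun w => S w * A]
  simp [h]

omit H in
/-- the projection on the even (`ε = 1`) or odd (`ε = -1`) part -/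
noncomputable def pj (S : V → End ℂ M) (r : ℕ) (ε : ℂ) : End ℂ M := (2 : ℂ)⁻¹ • (1 + ε • par S r)

theorem pj_mul_pj {ε : ℂ} (hε : ε * ε = 1) : pj S r ε * pj S r ε = pj S r ε := by
  simp only [pj, smul_mul_smul_comm, add_mul, mul_add, one_mul, mul_one, H.par_mul_par, hε]
  module

theorem par_mul_pj {ε : ℂ} (hε : ε * ε = 1) : par S r * pj S r ε = ε • pj S r ε := by
  simp only [pj, mul_smul_comm, mul_add, mul_one, H.par_mul_par, smul_add, smul_smul]
  match_scalars
  · linear_combination (-2⁻¹) * hε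
  · ring

theorem trace_pj_even : LinearMap.trace ℂ M (pj S r 1) = (r + 1 : ℕ) := by
  simp only [pj, map_smul, map_add, H.trace_par, LinearMap.trace_one, H.dim]
  simp; ring

theorem trace_pj_odd : LinearMap.trace ℂ M (pj S r (-1)) = r := by
  simp only [pj, map_smul, map_add, H.trace_par, LinearMap.trace_one, H.dim]
  simp

omit H in
theorem comm_pj {g : f.Isom} {A : End ℂ M} (h : ∀ v, A * S v = S (g.1 v) * A) (ε : ℂ) :
    A * pj S r ε = pj S r ε * A := by
  simp [pj, mul_add, add_mul, comm_par h]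

omit H in
/-- normalised intertwiners -/
def Impl (S : V → End ℂ M) (r : ℕ) (g : f.Isom) (A : End ℂ M) : Prop :=
  IsUnit A ∧ (∀ v, A * S v = S (g.1 v) * A) ∧ dp (pj S r 1) A = dp (pj S r (-1)) A

theorem dp_smul_even (c : ℂ) {g : f.Isom} {A : End ℂ M} (h : ∀ v, A * S v = S (g.1 v) * A) :
    dp (pj S r 1) (c • A) = c ^ (r + 1) * dp (pj S r 1) A := by
  rw [← smul_one_mul, dp_mul (H.pj_mul_pj (by simp)) _ (comm_pj h _),
    dp_smul (H.pj_mul_pj (by simp)) H.trace_pj_even]

theorem dp_smul_odd (c : ℂ) {g : f.Isom} {A : End ℂ M} (h : ∀ v, A * S v = S (g.1 v) * A) :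
    dp (pj S r (-1)) (c • A) = c ^ r * dp (pj S r (-1)) A := by
  rw [← smul_one_mul, dp_mul (H.pj_mul_pj (by simp)) _ (comm_pj h _),
    dp_smul (H.pj_mul_pj (by simp)) H.trace_pj_odd]

theorem exists_impl (g : f.Isom) : ∃ A, Impl S r g A := by
  obtain ⟨A, hA, h⟩ := H.exists_unit g
  have h1 := dp_ne_zero (H.pj_mul_pj (ε := 1) (by simp)) hA (comm_pj h _)
  have h2 := dp_ne_zero (H.pj_mul_pj (ε := -1) (by simp)) hA (comm_pj h _)
  refine ⟨(dp (pj S r (-1)) A / dp (pj S r 1) A) • A, hA.smul (Units.mk0 _ (div_ne_zero h2 h1)),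
    fun v => by simp [h], ?_⟩
  rw [H.dp_smul_even _ h, H.dp_smul_odd _ h, pow_succ, mul_assoc, div_mul_cancel₀ _ h1]

theorem exists_smul_eq {g : f.Isom} {A B : End ℂ M} (hA : ∀ v, A * S v = S (g.1 v) * A)
    (hu : IsUnit B) (hB : ∀ v, B * S v = S (g.1 v) * B) : ∃ c : ℂ, A = c • B := by
  obtain ⟨B, rfl⟩ := hu
  obtain ⟨c, hc⟩ := H.exists_smul (A := ↑B⁻¹ * A) fun v => by
    rw [mul_assoc, hA, Units.inv_mul_eq_iff_eq_mul, ← mul_assoc, hB, mul_assoc,
      Units.mul_inv_cancel_left]
  exact ⟨c, by rw [Units.inv_mul_eq_iff_eq_mul] at hc; simp [hc]⟩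

theorem impl_unique {g : f.Isom} {A B : End ℂ M} (hA : Impl S r g A) (hB : Impl S r g B) :
    A = B := by
  obtain ⟨c, rfl⟩ := H.exists_smul_eq hA.2.1 hB.1 hB.2.1
  have h1 := hA.2.2
  have h2 := dp_ne_zero (H.pj_mul_pj (ε := -1) (by simp)) hA.1 (comm_pj hA.2.1 _)
  rw [H.dp_smul_odd _ hB.2.1] at h2
  rw [H.dp_smul_even _ hB.2.1, H.dp_smul_odd _ hB.2.1, hB.2.2, pow_succ', mul_assoc] at h1
  rw [(mul_eq_right₀ h2).mp h1, one_smul]

/-- the Weil representation -/
noncomputable def weil : Representation ℂ f.Isom M where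
  toFun g := (H.exists_impl g).choose
  map_one' := H.impl_unique (H.exists_impl 1).choose_spec
    ⟨isUnit_one, fun v => by simp, by rw [dp_one, dp_one]⟩
  map_mul' g h := by
    obtain ⟨a1, a2, a3⟩ := (H.exists_impl g).choose_spec
    obtain ⟨b1, b2, b3⟩ := (H.exists_impl h).choose_spec
    exact H.impl_unique (H.exists_impl (g * h)).choose_spec ⟨a1.mul b1,
      fun v => by rw [mul_assoc, b2, ← mul_assoc, a2, mul_assoc]; rfl, by
        rw [dp_mul (H.pj_mul_pj (by simp)) _ (comm_pj b2 _),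
          dp_mul (H.pj_mul_pj (by simp)) _ (comm_pj b2 _), a3, b3]⟩

theorem weil_mul (g : f.Isom) (v : V) : H.weil g * S v = S (g.1 v) * H.weil g :=
  (H.exists_impl g).choose_spec.2.1 v

theorem char_mul_conj (g : f.Isom) : H.weil.character g * conj (H.weil.character g) =
    Nat.card (MulAction.fixedBy V g) := by
  classical
  have : Finite f.Isom := Finite.of_injective (fun g v => g.1 v) fun a b h => Isom.ext (congrFun h)
  rw [← char_inv (isCharacter_of_rep _), mul_comm, ← Representation.char_linHom,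
    Representation.character, LinearMap.trace_eq_matrix_trace ℂ H.basis, Matrix.trace,
    Nat.card_eq_fintype_card, Fintype.card_subtype, Finset.card_filter]
  push_cast
  refine Finset.sum_congr rfl fun v _ => ?_
  have : H.weil.linHom H.weil g (H.basis v) = H.basis (g.1 v) := by
    rw [H.basis_apply, H.basis_apply, Representation.linHom_apply, ← End.mul_eq_comp,
      ← End.mul_eq_comp, ← mul_assoc, H.weil_mul, mul_assoc, ← map_mul]
    simp
  rw [Matrix.diag_apply, LinearMap.toMatrix_apply, this, Basis.repr_self, Finsupp.single_apply]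
  rfl

/-- The Weil characters. -/
theorem exists_weil [FiniteDimensional F V] (hr : 0 < r) : ∃ (χ χ' : f.Isom → ℂ) (κ : ℂ),
    IsIrrCharacter f.Isom χ ∧ IsIrrCharacter f.Isom χ' ∧ χ 1 = (r + 1 : ℕ) ∧ χ' 1 = r ∧ κ ≠ 0 ∧
      χ f.negOne = κ * χ 1 ∧ χ' f.negOne = -κ * χ' 1 := by
  classical
  have : Finite f.Isom := Finite.of_injective (fun g v => g.1 v) fun a b h => Isom.ext (congrFun h)
  have := Fintype.ofFinite f.Isom
  let χ : ℂ → f.Isom → ℂ := fun ε g => LinearMap.trace ℂ M (pj S r ε * H.weil g)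
  have h1 : ∀ ε, ε * ε = 1 → IsCharacter f.Isom (χ ε) := fun ε hε =>
    isChar_trace_idem H.weil _ (H.pj_mul_pj hε) fun g => (comm_pj (H.weil_mul g) ε).symm
  have h2 : χ 1 1 = (r + 1 : ℕ) := by simp only [χ, map_one, mul_one, H.trace_pj_even]
  have h3 : χ (-1) 1 = r := by simp only [χ, map_one, mul_one, H.trace_pj_odd]
  have h4 : ∑ b : Bool, (if b then χ 1 else χ (-1)) = H.weil.character := by
    ext g
    simp only [Fintype.sum_bool, if_true, Bool.false_eq_true, if_false, Pi.add_apply, χ,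
      ← map_add, ← add_mul]
    rw [show pj S r 1 + pj S r (-1) = 1 by simp only [pj]; module, one_mul]; rfl
  obtain ⟨u, hu⟩ : ∃ u : V, u ≠ 0 := by
    have : Nontrivial V := Finite.one_lt_card_iff_nontrivial.mp (by rw [H.card]; nlinarith)
    exact exists_ne 0
  obtain ⟨h5, -⟩ := irr_of_inner_sum_le (f := fun b : Bool => if b then χ 1 else χ (-1))
    (by rintro (_ | _) <;> exact h1 _ (by simp)) (by
      rintro (_ | _) e
      · exact hr.ne' (Nat.cast_eq_zero.mp (h3.symm.trans (congrFun e 1)))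
      · exact Nat.succ_ne_zero _ (Nat.cast_eq_zero.mp (h2.symm.trans (congrFun e 1))))
    (m := Nat.card (MulAction.orbitRel.Quotient f.Isom (V × Unit))) (by
      rw [h4, ← inner_perm_perm]
      simp only [classInner, H.char_mul_conj]
      congr 2; ext g
      simp [Nat.card_unique])
    (Nat.card_le_card_of_surjective (fun b : Bool => Quotient.mk _ (if b then u else 0, ()))
      (fun p => by
        obtain ⟨⟨x, ⟨⟩⟩, rfl⟩ := Quotient.exists_rep p
        by_cases hx : x = 0
        · exact ⟨false, by simp [hx]⟩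
        · obtain ⟨g, hg⟩ := H.nondeg.witt_one hx hu (by simp [sp_B_self]) (by simp [sp_Q])
          exact ⟨true, Quotient.sound ⟨g, Prod.ext hg rfl⟩⟩) |>.trans (by simp))
  obtain ⟨κ, hκ⟩ := H.exists_smul_eq (H.weil_mul f.negOne)
    (IsUnit.of_mul_eq_one _ H.par_mul_par) fun v => by rw [H.par_mul, negOne_apply]
  have h6 : ∀ ε, ε * ε = 1 → χ ε f.negOne = ε * κ * χ ε 1 := fun ε hε => by
    simp only [χ, hκ, map_one, mul_one, mul_smul_comm]
    rw [LinearMap.map_smul, LinearMap.trace_mul_comm, H.par_mul_pj hε, LinearMap.map_smul]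
    simp only [smul_eq_mul]; ring
  refine ⟨χ 1, χ (-1), κ, h5 true, h5 false, h2, h3, fun e => ?_, by simp [h6], by simp [h6]⟩
  have : Nontrivial M := (finrank_pos_iff (R := ℂ)).mp (by rw [H.dim]; omega)
  exact ((Group.isUnit f.negOne).map H.weil).ne_zero (by rw [hκ, e, zero_smul])

end Heis

section Schroedinger

variable {ι : Type*} [Fintype ι] [DecidableEq ι]

/-- the Schrödinger operators -/
def schr (γ : AddChar F ℂ) (v : ι ⊕ ι → F) : End ℂ ((ι → F) → ℂ) where
  toFun φ t := γ (2 * (v ∘ .inl) ⬝ᵥ t + (v ∘ .inl) ⬝ᵥ (v ∘ .inr)) * φ (t + v ∘ .inr)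
  map_add' φ φ' := by ext; simp [mul_add]
  map_smul' c φ := by ext; simp [mul_left_comm]

theorem schr_apply (γ : AddChar F ℂ) (v : ι ⊕ ι → F) (φ : (ι → F) → ℂ) (t : ι → F) :
    schr γ v φ t = γ (2 * (v ∘ .inl) ⬝ᵥ t + (v ∘ .inl) ⬝ᵥ (v ∘ .inr)) * φ (t + v ∘ .inr) := rfl

theorem heis_schr [Fintype F] (h2 : (2 : F) ≠ 0) {γ : AddChar F ℂ} (hγ : γ ≠ 1) {n r : ℕ}
    (hr : Fintype.card F ^ n = 2 * r + 1) : Heis (spForm n F) γ (schr γ) r where
  nondeg := spForm_nondeg n
  ne_one := hγ
  mul v w := by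
    refine LinearMap.ext fun φ => funext fun t => ?_
    simp only [End.mul_apply, LinearMap.smul_apply, Pi.smul_apply, schr_apply, smul_eq_mul,
      ← mul_assoc, ← AddChar.map_add_eq_mul, spForm_B', add_assoc]
    congr 2
    simp only [dotProduct, Function.comp_apply, Pi.add_apply, Finset.mul_sum,
      ← Finset.sum_add_distrib]
    exact Finset.sum_congr rfl fun i _ => by ring
  zero := by
    refine LinearMap.ext fun φ => funext fun t => ?_
    simp [schr_apply]
  trace v hv := by
    classical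
    rw [LinearMap.trace_eq_matrix_trace ℂ (Pi.basisFun ℂ (Fin n → F)), Matrix.trace]
    simp only [Matrix.diag_apply, LinearMap.toMatrix_apply, Pi.basisFun_apply, Pi.basisFun_repr,
      schr_apply, Pi.single_apply, add_eq_left]
    by_cases h : v ∘ .inr = 0
    · obtain ⟨i, hi⟩ : ∃ i, v (.inl i) ≠ 0 := by
        by_contra hc
        push Not at hc
        refine hv (funext fun i => ?_)
        rcases i with i | i
        exacts [hc i, congrFun h i]
      simp only [h, dotProduct_zero, add_zero, if_true, mul_one]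
      refine AddChar.sum_eq_zero_of_ne_one (ψ := γ.compAddMonoidHom
        (dotProductBilin F F ((2 : F) • v ∘ .inl)).toAddMonoidHom) (fun e => hγ ?_) |>.symm ▸ ?_
      · ext a
        have := DFunLike.congr_fun e (Pi.single i (a / (2 * v (.inl i))))
        simpa [← mul_assoc, mul_div_cancel₀ _ (mul_ne_zero h2 hi)] using this
      · simp
    · simp [h]
  dim := by simp [hr]
  card := by simp [← hr, ← pow_mul, mul_two]

theorem exists_weil_sp [Fintype F] (hodd : Odd (Fintype.card F)) {n : ℕ} (hn : 1 ≤ n) :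
    ∃ (χ χ' : (spForm n F).Isom → ℂ) (κ : ℂ), IsIrrCharacter _ χ ∧ IsIrrCharacter _ χ' ∧
      χ 1 = ((Fintype.card F ^ n + 1) / 2 : ℕ) ∧ χ' 1 = ((Fintype.card F ^ n - 1) / 2 : ℕ) ∧
      κ ≠ 0 ∧ χ (spForm n F).negOne = κ * χ 1 ∧ χ' (spForm n F).negOne = -κ * χ' 1 := by
  classical
  have h2 : (2 : F) ≠ 0 := fun h => Nat.not_even_iff_odd.mpr hodd (Nat.even_iff.mpr
    (FiniteField.even_card_iff_char_two.mp (ringChar.eq_iff.mpr
      ((CharP.charP_iff_prime_eq_zero Nat.prime_two).mpr (by exact_mod_cast h)))))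
  obtain ⟨r, hr⟩ := hodd.pow (n := n)
  have hγ : AddChar.FiniteField.primitiveChar_to_Complex F ≠ 1 := by
    simpa using AddChar.FiniteField.primitiveChar_to_Complex_isPrimitive F one_ne_zero
  have := Nat.one_lt_pow (show n ≠ 0 by omega) (Fintype.one_lt_card (α := F))
  rw [show (Fintype.card F ^ n + 1) / 2 = r + 1 by omega,
    show (Fintype.card F ^ n - 1) / 2 = r by omega]
  exact (heis_schr h2 hγ hr).exists_weil (by omega)

end Schroedinger

end Cfsg.Agent.Deg
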